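/-
P19: a group without elements of order `2 r` with a normal subgroup of index `r` is solvable.
Interface (see plans/P19.md).
-/
import Cfsg.Agent.P14.A2
import Cfsg.Agent.H5.Replacement

set_option autoImplicit false
set_option linter.unusedSectionVars false

namespace Cfsg.Agent.P19

open Subgroup Cfsg Cfsg.Agent Cfsg.Agent.FT
open Cfsg.Agent.H7.SC (oz jj Red)
open scoped commutatorElement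

universe u

/-- No element of order `2 r`. -/
def No2 (X : Type u) [Group X] (r : ℕ) : Prop := ∀ g : X, orderOf g ≠ 2 * r

/-- The theorem. -/
def CopStmt : Prop := ∀ (X : Type u) [Group X] [Finite X] (r : ℕ), r.Prime → r ≠ 2 → No2 X r →
  ∀ G : Subgroup X, G.Normal → G.index = r → Group.IsSolvable X

variable {X : Type u} [Group X] [Finite X]

/-- Weak closure of `Ω₁ Z(T)`. -/
def WC (T : Subgroup X) : Prop := ∀ g : X, oz T ^ᵍ g ≤ T → oz T ^ᵍ g = oz T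

/-- The case `q > 2`. -/
def Q2 (T : Subgroup X) : Prop := ∃ Z0 D : Subgroup X, Z0 ≤ oz T ∧ 2 < Z0.relIndex (oz T) ∧
  D ≤ 𝐍(oz T) ⊓ 𝐂(Z0) ∧ (∀ K : Subgroup X, K.Normal → T ≤ K → D ≤ K) ∧
  ∀ x ∈ oz T, x ∉ Z0 → ∀ y ∈ oz T, y ∉ Z0 → ∃ d ∈ D, (d * x * d⁻¹)⁻¹ * y ∈ Z0

/-- The case `q = 2`: `P = C_T(y)`, `R = N_T(J(P))`, `z = [y, a]`. -/
structure E2 (T A : Subgroup X) (y a g : X) : Prop where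
  two : IsPGroup 2 T
  yT : y ∈ T
  yy : y * y = 1
  idx : (T ⊓ 𝐂[y]).relIndex (T ⊓ 𝐍(jj (T ⊓ 𝐂[y]))) = 2
  hA : A ∈ H5.elemMax 2 (T ⊓ 𝐍(jj (T ⊓ 𝐂[y])))
  ha : a ∈ A
  ay : a ∉ 𝐂[y]
  gn : g ∈ 𝐍(T ⊓ 𝐂[y])
  gz : g * ⁅y, a⁆ * g⁻¹ ∉ 𝐂[a]

/-- The selected subgroup `J` and offender `A`. -/
structure Sel (T J A : Subgroup X) : Prop where
  sylT : IsSyl 2 T ⊤
  le : J ≤ T
  zle : oz T ≤ J
  syl : IsSyl 2 (T ⊓ 𝐍(J)) 𝐍(J)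
  mv : ¬ 𝐍(J) ≤ 𝐍(oz T)
  uniq : ∀ Q : Subgroup X, IsPGroup 2 Q → J ≤ Q → ∀ h ∈ 𝐍(J), ∀ k ∈ 𝐍(J),
    Q ≤ 𝐂(oz T ^ᵍ h) → Q ≤ 𝐂(oz T ^ᵍ k) → oz T ^ᵍ h ≠ oz T ^ᵍ k → jj Q = J
  hA : A ∈ H5.elemMax 2 (T ⊓ 𝐍(J))
  nA : ¬ A ≤ J
  quad : ∀ a ∈ A, ∀ v ∈ H2.nclIn 𝐍(J) (oz T), ⁅a, v⁆ ∈ A

/-- A minimal counterexample. -/
structure Mn (G : Subgroup X) (r : ℕ) : Prop where
  pr : r.Prime
  ne2 : r ≠ 2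
  no2 : No2 X r
  nrm : G.Normal
  idx : G.index = r
  ns : ¬ Group.IsSolvable X
  min : ∀ N : Subgroup X, N.Normal → N = ⊥ ∨ G ≤ N
  ind : ∀ E E0 : Subgroup X, E ≠ ⊤ → E0 ⊲ E → E0.relIndex E = r → Group.IsSolvable E

/-- Key count. -/
def KCStmt : Prop := ∀ (X : Type u) [Group X] [Finite X] (Q A : Subgroup X), A ≤ 𝐍(Q) →
  A ∈ H5.elemMax 2 (Q ⊔ A) → Q.relIndex A = 2 → ∀ v ∈ Q, v * v = 1 → ∀ z : X,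
  (∀ q ∈ Q, ⁅v, q⁆ = 1 ∨ ⁅v, q⁆ = z) → ¬ Q ≤ 𝐂[v] → A ≤ 𝐂[z]

/-- Product over an orbit. -/
def OrbStmt : Prop := ∀ (X : Type u) [Group X] [Finite X] (T B H : Subgroup X) (z : X),
  B ≤ 𝐍(T) → z ∈ T → z ∉ H → (∀ b ∈ B, b * z * b⁻¹ ∈ 𝐂[z]) →
  (∀ b ∈ B, b * z * b⁻¹ = z ∨ b * z * b⁻¹ ∈ H) → T ⊓ 𝐂(B) ≠ ⊥

/-- Chapter EA: `R < C_T(z)`. -/
def EAStmt : Prop := ∀ (X : Type u) [Group X] [Finite X] (T A : Subgroup X) (y a g : X),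
  E2 T A y a g → ¬ T ⊓ 𝐂[⁅y, a⁆] ≤ 𝐍(jj (T ⊓ 𝐂[y])) → ∀ B ≤ 𝐍(T), T ⊓ 𝐂(B) ≠ ⊥

/-- Chapter EB: `R = C_T(z)`. -/
def EBStmt : Prop := ∀ (X : Type u) [Group X] [Finite X] (T A : Subgroup X) (y a g : X),
  E2 T A y a g → T ⊓ 𝐂[⁅y, a⁆] ≤ 𝐍(jj (T ⊓ 𝐂[y])) → ∀ B ≤ 𝐍(T), T ⊓ 𝐂(B) ≠ ⊥

/-- Chapter M1 (selection). -/
def M1Stmt : Prop := ∀ (X : Type u) [Group X] [Finite X] (T : Subgroup X), IsSyl 2 T ⊤ →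
  𝐍(jj T) ≤ 𝐍(oz T) → WC T ∨ ∃ J A : Subgroup X, Sel T J A

/-- Chapter M2 (the rank one group generated by the offenders). -/
def M2Stmt : Prop := ∀ (X : Type u) [Group X] [Finite X] (T J A : Subgroup X), Sel T J A →
  Q2 T ∨ ∃ g ∈ 𝐍(J), g ∉ 𝐍(oz T) ∧ (oz T ^ᵍ g).relIndex (oz T) = 2 ∧
    𝐂(oz T ^ᵍ g).relIndex A = 2

/-- Chapter M3 (transvections). -/
def M3Stmt : Prop := ∀ (X : Type u) [Group X] [Finite X] (T J A : Subgroup X), Sel T J A →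
  ∀ g ∈ 𝐍(J), g ∉ 𝐍(oz T) → (oz T ^ᵍ g).relIndex (oz T) = 2 → 𝐂(oz T ^ᵍ g).relIndex A = 2 →
  ∃ y a g', E2 T A y a g'

/-- Chapter H (Hall-Higman). -/
def HStmt : Prop := ∀ (X : Type u) [Group X] [Finite X] (r : ℕ), r.Prime → r ≠ 2 → No2 X r →
  ∀ G : Subgroup X, G.Normal → G.index = r → ∀ E V : Subgroup X, Group.IsSolvable E → ¬ E ≤ G →
  IsElementaryAbelian 2 V → E ≤ 𝐍(V) → Red E V → ∀ β ∈ E, orderOf β = r → ⁅E, zpowers β⁆ ≤ 𝐂(V)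

/-- Chapter G1: weak closure in a minimal counterexample. -/
def G1Stmt : Prop := ∀ (X : Type u) [Group X] [Finite X] (G : Subgroup X) (r : ℕ), Mn G r →
  ∃ (T : Subgroup X) (β : X), IsSyl 2 T ⊤ ∧ β ∈ 𝐍(T) ∧ orderOf β = r ∧
    ⁅𝐍(oz T), zpowers β⁆ ≤ 𝐂(oz T) ∧ WC T

/-- Chapter G2: the final contradiction. -/
def G2Stmt : Prop := ∀ (X : Type u) [Group X] [Finite X] (G : Subgroup X) (r : ℕ), Mn G r →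
  ∀ (T : Subgroup X) (β : X), IsSyl 2 T ⊤ → β ∈ 𝐍(T) → orderOf β = r →
    ⁅𝐍(oz T), zpowers β⁆ ≤ 𝐂(oz T) → WC T → False

end Cfsg.Agent.P19
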