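/-
P19: offenders, conjugation, relative replacement theorem.
-/
import Cfsg.Agent.P19.Defs

set_option autoImplicit false
set_option linter.unusedSectionVars false
set_option linter.style.haveILetI false

namespace Cfsg.Agent.P19

open Subgroup Cfsg Cfsg.Agent Cfsg.Agent.FT
open Cfsg.Agent.H7.SC (oz jj oz_le le_cent_oz elemAb_oz)
open Cfsg.Agent.H5 (elemMax)
open scoped commutatorElement

universe u

variable {X : Type u} [Group X] [Finite X]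

theorem jj_conj (P : Subgroup X) (g : X) : jj (P ^ᵍ g) = jj P ^ᵍ g :=
  H5.thompsonSubgroupOf_map_of_injective _ (conj_injective g) P

theorem oz_conj (P : Subgroup X) (g : X) : oz (P ^ᵍ g) = oz P ^ᵍ g := by
  rw [oz, oz, ← omegaOne_conj, conj_inf, cent_conj]

theorem em_conj {P A : Subgroup X} (hA : A ∈ elemMax 2 P) (g : X) :
    A ^ᵍ g ∈ elemMax 2 (P ^ᵍ g) :=
  H5.map_mem_elemMax _ (by rw [(MonoidHom.ker_eq_bot_iff _).2 (conj_injective g), bot_inf_eq]) hA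

theorem elemAb_conj {A : Subgroup X} (hA : IsElementaryAbelian 2 A) (g : X) :
    IsElementaryAbelian 2 (A ^ᵍ g) := H5.elemAb_map _ hA

theorem two_conj {A : Subgroup X} (hA : IsPGroup 2 A) (g : X) : IsPGroup 2 (A ^ᵍ g) :=
  (isPGroup_map_iff (conj_injective g)).2 hA

theorem le_cent_self {A : Subgroup X} (hA : IsElementaryAbelian 2 A) : A ≤ 𝐂(A) :=
  isMulComm_iff_le_cent.1 hA.1

theorem jj_le (P : Subgroup X) : jj P ≤ P := H5.thompsonSubgroupOf_le P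

theorem jj_jj (P : Subgroup X) : jj (jj P) = jj P :=
  H5.thompsonSubgroupOf_eq_of_le (jj_le P) le_rfl

theorem le_em {P A E : Subgroup X} (hA : A ∈ elemMax 2 P) (hE : IsElementaryAbelian 2 E)
    (h1 : E ≤ P) (h2 : E ≤ 𝐂(A)) : E ≤ A :=
  le_sup_right.trans (H1.eq_of_le_of_card_le le_sup_left
    (hA.2.2 _ (sup_le hA.1 h1) (elemAb_sup hA.2.1 hE h2))).ge

theorem le_jj {P E : Subgroup X} (hE : IsElementaryAbelian 2 E) (h1 : E ≤ P) (h2 : E ≤ 𝐂(jj P)) :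
    E ≤ jj P := by
  obtain ⟨A, hA⟩ := H5.exists_mem_elemMax 2 P
  have h3 := H5.le_thompsonSubgroupOf hA
  exact (le_em hA hE h1 (h2.trans (cent_anti h3))).trans h3

/-- The offender bound. -/
theorem offender {R A F : Subgroup X} (hA : A ∈ elemMax 2 R) (hF : IsElementaryAbelian 2 F)
    (h : F ≤ R) : A.relIndex F ≤ 𝐂(F).relIndex A := by
  have h1 := hA.2.2 _ (sup_le h (inf_le_right.trans hA.1))
    (elemAb_sup hF (elemAb_of_le (inf_le_right : 𝐂(F) ⊓ A ≤ A) hA.2.1) inf_le_left)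
  have h2 := card_sup_mul_card_inf (A := F) (B := 𝐂(F) ⊓ A) (inf_le_left.trans (cent_le_norm F))
  rw [← inf_assoc, inf_eq_left.2 (le_cent_self hF), inf_comm F A] at h2
  have h3 := H1.card_inf_mul_relIndex A F
  have h4 := H1.card_inf_mul_relIndex 𝐂(F) A
  have p1 : 0 < 𝐨(A ⊓ F) := Nat.card_pos
  have p2 : 0 < 𝐨(𝐂(F) ⊓ A) := Nat.card_pos
  rw [← h3] at h2
  rw [← h4] at h1
  have h5 : 𝐨(F ⊔ 𝐂(F) ⊓ A) = A.relIndex F * 𝐨(𝐂(F) ⊓ A) :=
    Nat.eq_of_mul_eq_mul_right p1 (by rw [h2]; ring)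
  rw [h5, mul_comm] at h1
  exact Nat.le_of_mul_le_mul_left h1 p2

/-- Thompson replacement inside a subgroup. -/
theorem exists_quad {R V : Subgroup X} (hR : IsPGroup 2 R) (hV : IsElementaryAbelian 2 V)
    (hn : V ⊲ R) (hJ : ¬ jj R ≤ 𝐂(V)) :
    ∃ A ∈ elemMax 2 R, ¬ A ≤ 𝐂(V) ∧ ∀ a ∈ A, ∀ v ∈ V, ⁅a, v⁆ ∈ A := by
  haveI := H1.normal_subgroupOf_of_le hn.2
  haveI : Group.IsNilpotent (⊤ : Subgroup R) :=
    isNilpotent_of_isPGroup Nat.prime_two (hR.to_subgroup ⊤)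
  have e : (V.subgroupOf R).map R.subtype = V := map_subgroupOf_eq_of_le hn.1
  have e' : (⊤ : Subgroup R).map R.subtype = R := by
    rw [← MonoidHom.range_eq_map, range_subtype]
  obtain ⟨A, a1, a2, a3⟩ := H5.exists_quadratic_of_thompson_not_le (p := 2) (P := ⊤)
    (V := V.subgroupOf R) le_top ((isElemAb_map_iff R.subtype_injective).1 (e.symm ▸ hV))
    fun h => hJ (by
      have := (map_le_cent_iff R.subtype_injective).2 h
      rwa [← H5.thompsonSubgroupOf_map_of_injective _ R.subtype_injective, e, e'] at this)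
  have a4 := H5.map_mem_elemMax R.subtype (by simp) a1
  rw [e'] at a4
  refine ⟨A.map R.subtype, a4, fun h => a2
    ((map_le_cent_iff R.subtype_injective).1 (e.symm ▸ h)), ?_⟩
  rintro _ ⟨a, ha, rfl⟩ v hv
  exact ⟨_, a3 a ha ⟨v, hn.1 hv⟩ hv, rfl⟩

/-- A 2-subgroup normalizing a conjugate of `Ω₁ Z(T)` centralizes it. -/
theorem cent_of_norm {T Q : Subgroup X} (hT : IsSyl 2 T ⊤) (hQ : IsPGroup 2 Q) {k : X}
    (h : Q ≤ 𝐍(oz T ^ᵍ k)) : Q ≤ 𝐂(oz T ^ᵍ k) := by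
  have h1 : T ^ᵍ k ≤ 𝐂(oz T ^ᵍ k) := conj_le_cent_iff.2 (le_cent_oz T)
  obtain ⟨g, hg, e⟩ := ((hT.conj_of_mem_norm (g := k) (by rw [norm_top]; trivial)).of_le
    (h1.trans (cent_le_norm _)) le_top).exists_le_conj Nat.prime_two hQ h
  exact e.trans (conj_le_of_mem_norm h1 (H1.le_normalizer_centralizer le_rfl hg))

namespace Sel

variable {T J A : Subgroup X} (s : Sel T J A)
include s

theorem le_R : J ≤ T ⊓ 𝐍(J) := le_inf s.le (le_norm_self J)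

theorem el : IsElementaryAbelian 2 A := s.hA.2.1

theorem A_le : A ≤ 𝐍(J) := s.hA.1.trans inf_le_right

theorem z_le {h : X} (hh : h ∈ 𝐍(J)) : oz T ^ᵍ h ≤ J := conj_le_of_mem_norm s.zle hh

theorem le_cz {h : X} (hh : h ∈ 𝐍(J)) : J ≤ 𝐂(oz T ^ᵍ h) := by
  rw [← conj_eq_of_mem_norm hh]
  exact conj_le_cent_iff.2 (s.le.trans (le_cent_oz T))

theorem A_cz : A ≤ 𝐂(oz T) := (s.hA.1.trans inf_le_left).trans (le_cent_oz T)

/-- (m5) -/
theorem fix {h k : X} (hh : h ∈ 𝐍(J)) (hk : k ∈ 𝐍(J)) (e : A ^ᵍ h ≤ 𝐍(oz T ^ᵍ k)) :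
    oz T ^ᵍ k = oz T ^ᵍ h := by
  by_contra hne
  have h1 : IsPGroup 2 (A ^ᵍ h) := two_conj (elemAb_isPGroup s.el) h
  have h2 := s.uniq (A ^ᵍ h ⊔ J) (isPGroup_sup h1 (s.sylT.pgrp.to_le s.le)
    (conj_le_of_mem s.A_le hh)) le_sup_right k hk h hh
    (sup_le (cent_of_norm s.sylT h1 e) (s.le_cz hk))
    (sup_le (conj_le_cent_iff.2 s.A_cz) (s.le_cz hh)) hne
  have h3 : A ^ᵍ h ⊔ J = (A ⊔ J) ^ᵍ h := by rw [conj_sup, conj_eq_of_mem_norm hh]
  rw [h3, jj_conj, conj_eq_iff, conj_eq_of_mem_norm (inv_mem hh)] at h2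
  exact s.nA (h2 ▸ H5.le_thompsonSubgroupOf
    (H5.mem_elemMax_of_le (sup_le s.hA.1 s.le_R) s.hA le_sup_left))

theorem ncl_le {L : Subgroup X} (hL : L ≤ 𝐍(J)) : H2.nclIn L (oz T) ≤ J ⊓ 𝐂(J) :=
  H2.nclIn_le_iff.2 fun _ hh => le_inf (s.z_le (hL hh)) (cent_comm.1 (s.le_cz (hL hh)))

theorem ncl_el {L : Subgroup X} (hL : L ≤ 𝐍(J)) : IsElementaryAbelian 2 (H2.nclIn L (oz T)) := by
  have h1 := s.ncl_le hL
  refine elemAb_of_le (B := oz J) (H2.nclIn_le_iff.2 fun h hh => ?_) (elemAb_oz J)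
  exact le_omegaOne_of_elemAb ((H2.conj_le_nclIn _ hh).trans h1) (elemAb_conj (elemAb_oz T) h)

end Sel

end Cfsg.Agent.P19
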