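/-
P19, chapter KC: the key count and the product over an orbit.
-/
import Cfsg.Agent.P19.M0

set_option autoImplicit false
set_option linter.unusedSectionVars false
set_option linter.style.haveILetI false

namespace Cfsg.Agent.P19

open Subgroup Cfsg Cfsg.Agent Cfsg.Agent.FT
open Cfsg.Agent.H7.SC (oz jj)
open Cfsg.Agent.H5 (elemMax)
open scoped commutatorElement

universe u

variable {X : Type u} [Group X] [Finite X]

namespace K

theorem br1 {v q : X} : ⁅v, q⁆ = 1 ↔ q ∈ 𝐂[v] :=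
  commutatorElement_eq_one_iff_mul_comm.trans mem_cent1.symm

theorem inv2 {v : X} (h : v * v = 1) : v⁻¹ = v := inv_eq_of_mul_eq_one_right h

theorem cj {v : X} (h : v * v = 1) (q : X) : q * v * q⁻¹ = v * ⁅v, q⁆ := by
  rw [commutatorElement_def, ← mul_assoc, ← mul_assoc, ← mul_assoc, h, one_mul, inv2 h]

theorem br_mul (v q r : X) : ⁅v, q * r⁆ = ⁅v, q⁆ * (q * ⁅v, r⁆ * q⁻¹) := by
  simp only [commutatorElement_def]; group

theorem br_conj (g v q : X) : ⁅g * v * g⁻¹, g * q * g⁻¹⁆ = g * ⁅v, q⁆ * g⁻¹ := by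
  simp only [commutatorElement_def]; group

theorem conj_sq {v : X} (h : v * v = 1) (g : X) : g * v * g⁻¹ * (g * v * g⁻¹) = 1 := by
  rw [conj_mul, h, mul_one, mul_inv_cancel]

theorem mul2 {M N : Subgroup X} (h : M.relIndex N = 2) {a b : X} (ha : a ∈ N) (hb : b ∈ N) :
    a * b ∈ M ↔ (a ∈ M ↔ b ∈ M) := mul_mem_iff_of_index_two h (a := ⟨a, ha⟩) (b := ⟨b, hb⟩)

theorem el_adj {E : Subgroup X} {w : X} (hE : IsElementaryAbelian 2 E) (hw : w * w = 1)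
    (h : E ≤ 𝐂[w]) : IsElementaryAbelian 2 (E ⊔ zpowers w) :=
  elemAb_sup hE (elemAb_zpowers (by rw [pow_two, hw])) (cent_comm.1 (by rwa [cent_zpowers]))

theorem el_sq {E : Subgroup X} (hE : IsElementaryAbelian 2 E) {a : X} (ha : a ∈ E) : a * a = 1 :=
  pow_two a ▸ (H5.elemAb_iff.1 hE).2 a ha

theorem el_comm {E : Subgroup X} (hE : IsElementaryAbelian 2 E) {a b : X} (ha : a ∈ E)
    (hb : b ∈ E) : a ∈ 𝐂[b] := cent_le_cent1 hb (le_cent_self hE ha)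

theorem two_le {H L : Subgroup X} (h : H ≤ L) {x : X} (h1 : x ∈ L) (h2 : x ∉ H) :
    2 * 𝐨(H) ≤ 𝐨(L) := by
  obtain ⟨k, hk⟩ := Subgroup.card_dvd_of_le h
  have h3 := H1.card_lt_of_lt (lt_of_le_of_ne h fun e => h2 (e ▸ h1))
  have h4 : 0 < 𝐨(H) := Nat.card_pos
  rw [hk] at h3 ⊢
  have : 2 ≤ k := by
    by_contra e
    have : k = 0 ∨ k = 1 := by omega
    rcases this with rfl | rfl <;> simp at h3
  nlinarith

end K

open K

/-- `v` induces a transvection with centre `z` on `Q`. -/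
structure Tv (Q : Subgroup X) (v z : X) : Prop where
  vQ : v ∈ Q
  vv : v * v = 1
  br : ∀ q ∈ Q, ⁅v, q⁆ = 1 ∨ ⁅v, q⁆ = z
  nc : ¬ Q ≤ 𝐂[v]

namespace Tv

variable {Q : Subgroup X} {v z : X} (t : Tv Q v z)
include t

theorem eq {q : X} (hq : q ∈ Q) (h : q ∉ 𝐂[v]) : ⁅v, q⁆ = z :=
  (t.br q hq).resolve_left fun e => h (br1.1 e)

theorem ex : ∃ q ∈ Q, q ∉ 𝐂[v] ∧ ⁅v, q⁆ = z := by
  obtain ⟨q, hq, h⟩ := not_forall₂.1 t.nc
  exact ⟨q, hq, h, t.eq hq h⟩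

theorem ne : z ≠ 1 := by
  obtain ⟨q, -, h, e⟩ := t.ex
  exact fun e' => h (br1.1 (e.trans e'))

theorem zQ : z ∈ Q := by
  obtain ⟨q, hq, -, e⟩ := t.ex
  rw [← e, commutatorElement_def]
  exact mul_mem (mul_mem (mul_mem t.vQ hq) (inv_mem t.vQ)) (inv_mem hq)

theorem aux {q : X} (hq : q ∈ Q) : q * z * q⁻¹ = z ∨ (⁅v, q⁆ = z ∧ z * (q * z * q⁻¹) = 1) := by
  obtain ⟨r, hr, -, e⟩ := t.ex
  have h := br_mul v q r
  rw [e] at h
  have n : q * z * q⁻¹ ≠ 1 := fun e => t.ne (by simpa using e)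
  rcases t.br q hq with a | a <;> rcases t.br _ (mul_mem hq hr) with b | b <;> rw [a, b] at h
  · exact (n (by simpa using h.symm)).elim
  · exact .inl (by simpa using h.symm)
  · exact .inr ⟨a, h.symm⟩
  · exact (n (by simpa using h)).elim

theorem zz : z * z = 1 := by
  obtain ⟨r, -, -, e⟩ := t.ex
  have h1 : v * z * v⁻¹ = z := (t.aux t.vQ).resolve_right fun h => t.ne (by simpa using h.1.symm)
  have h2 := conj_sq t.vv r
  rw [cj t.vv, e] at h2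
  rw [inv2 t.vv] at h1
  rw [← h2]
  nth_rewrite 1 [← h1]
  group

theorem cz : Q ≤ 𝐂[z] := fun q hq => mem_cent1_iff_conj.2 <| (t.aux hq).elim id fun h => by
  rw [← inv2 t.zz]
  nth_rewrite 1 [inv2 t.zz]
  exact eq_inv_of_mul_eq_one_right h.2

theorem mul {q r : X} (hq : q ∈ Q) (hr : r ∈ Q) (h1 : q ∉ 𝐂[v]) (h2 : r ∉ 𝐂[v]) :
    q * r ∈ 𝐂[v] := by
  rw [← br1, br_mul, t.eq hq h1, t.eq hr h2, mem_cent1_iff_conj.1 (t.cz hq), t.zz]

theorem rel {L : Subgroup X} (hL : L ≤ Q) (h : ¬ L ≤ 𝐂[v]) : 𝐂[v].relIndex L = 2 := by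
  obtain ⟨q, hq, h⟩ := not_forall₂.1 h
  exact relIndex_eq_two_iff_exists_notMem_and'.2 ⟨q, hq, h, fun b hb =>
    (em (b ∈ 𝐂[v])).elim .inr fun hb' => .inl (t.mul (hL hq) (hL hb) h hb')⟩

theorem conj (g : X) : Tv (Q ^ᵍ g) (g * v * g⁻¹) (g * z * g⁻¹) := by
  refine ⟨conj_mem_conj t.vQ g, conj_sq t.vv g, fun q hq => ?_, fun h => t.nc ?_⟩
  · obtain ⟨q, hq', rfl⟩ := mem_conj'.1 hq
    rw [br_conj]
    exact (t.br q hq').imp (fun e => by simp [e]) fun e => by rw [e]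
  · rwa [cent1_conj, conj_le_conj_iff] at h

theorem conjN {g : X} (hg : g ∈ 𝐍(Q)) : Tv Q (g * v * g⁻¹) (g * z * g⁻¹) := by
  have := t.conj g
  rwa [conj_eq_of_mem_norm hg] at this

theorem mono {L : Subgroup X} (hL : L ≤ Q) (hv : v ∈ L) (h : ¬ L ≤ 𝐂[v]) : Tv L v z :=
  ⟨hv, t.vv, fun q hq => t.br q (hL hq), h⟩

/-- Two transvections with different centres commute. -/
theorem comm {L : Subgroup X} {w c : X} (s : Tv L w c) (hw : w ∈ Q) (hv : v ∈ L) (h : c ≠ z) :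
    w ∈ 𝐂[v] := by
  by_contra n
  have h1 := t.eq hw n
  have h2 := s.eq hv fun e => n (mem_cent1_comm.1 e)
  rw [← commutatorElement_inv, h1, inv2 t.zz] at h2
  exact h h2.symm

end Tv

theorem kcStmt : KCStmt.{u} := by
  intro X _ _ Q A hN hA h2 v hv vv z br nc a ha
  by_contra haz
  have t : Tv Q v z := ⟨hv, vv, br, nc⟩
  have t' := t.conjN (hN ha)
  have hne : a * z * a⁻¹ ≠ z := fun e => haz (mem_cent1_iff_conj.2 e)
  have aa := el_sq hA.2.1 ha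
  have k1 : ∀ q ∈ Q, ⁅v, q⁆ = ⁅a * v * a⁻¹, q⁆ → q ∈ 𝐂[v] := fun q hq e => by
    by_contra n
    rw [t.eq hq n] at e
    exact (t'.br q hq).elim (fun b => t.ne (e.trans b)) fun b => hne (e.trans b).symm
  have c1 : a * v * a⁻¹ ∈ 𝐂[v] := t.comm t' t'.vQ hv hne
  have c2 : 𝐂[v] ⊓ (Q ⊓ A) ≤ 𝐂[a * v * a⁻¹] := fun s hs => by
    rw [cent1_conj, mem_conj]
    have := mem_cent1_iff_conj.1 (inv_mem (el_comm hA.2.1 ha hs.2.2))
    rw [inv_inv] at this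
    rw [this]
    exact hs.1
  obtain ⟨E, e1, e2, e3, e4, e5, e6⟩ : ∃ E : Subgroup X, IsElementaryAbelian 2 E ∧ E ≤ Q ∧
      𝐂[v] ⊓ (Q ⊓ A) ≤ E ∧ v ∈ E ∧ a * v * a⁻¹ ∈ E ∧ z ∈ E := by
    have l : 𝐂[v] ⊓ (Q ⊓ A) ⊔ zpowers v ⊔ zpowers (a * v * a⁻¹) ≤ Q :=
      sup_le (sup_le (inf_le_right.trans inf_le_left) (zpowers_le.2 hv)) (zpowers_le.2 t'.vQ)
    refine ⟨_, el_adj (el_adj (el_adj (elemAb_of_le (inf_le_right.trans inf_le_right) hA.2.1) vv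
      inf_le_left) t'.vv (sup_le c2 (zpowers_le.2 (mem_cent1_comm.1 c1)))) t.zz (l.trans t.cz),
      sup_le l (zpowers_le.2 t.zQ), (le_sup_left.trans le_sup_left).trans le_sup_left,
      mem_sup_left (mem_sup_left (mem_sup_right (mem_zpowers _))),
      mem_sup_left (mem_sup_right (mem_zpowers _)), mem_sup_right (mem_zpowers _)⟩
  have nC : 𝐍(Q) ≤ 𝐍(𝐂(Q)) := H1.le_normalizer_centralizer le_rfl
  have zc : z ∈ 𝐂(Q) := mem_cent_iff_cent1.2 t.cz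
  have s1 : 2 * 𝐨(E ⊓ 𝐂[a]) ≤ 𝐨(E ⊓ H1.commStab (zpowers a) 𝐂(Q)) := by
    refine two_le (fun x hx => ⟨hx.1, nC (le_norm_self Q (e2 hx.1)), fun g hg => ?_⟩)
      (x := z) ⟨e6, cent_le_norm _ (cent_comm.1 le_rfl t.zQ), fun g hg => ?_⟩
      fun h => haz (mem_cent1_comm.1 h.2)
    · rw [br1.2 (cent1_le_cent1_of_mem_zpowers hg hx.2)]
      exact one_mem _
    · exact mul_mem ((mem_normalizer_iff.1 (nC (hN (zpowers_le.2 ha hg))) _).1 zc) (inv_mem zc)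
  have s2 : 2 * 𝐨(E ⊓ H1.commStab (zpowers a) 𝐂(Q)) ≤ 𝐨(E) := by
    refine two_le inf_le_left e4 fun h => nc fun q hq => k1 q hq ?_
    have h3 := mem_cent.1 (h.2.2 a (mem_zpowers a)) _ (mul_mem (mul_mem hv hq) (inv_mem hv))
    simp only [commutatorElement_def] at h3 ⊢
    calc _ = (v * q * v⁻¹ * (a * v * a⁻¹ * v⁻¹)) * (a * v * a⁻¹ * v⁻¹)⁻¹ * q⁻¹ := by group
      _ = _ := by rw [h3]; group
  have s3 := hA.2.2 E (e2.trans le_sup_left) e1
  have s4 := H1.card_inf_mul_relIndex Q A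
  have s5 : 𝐂[v] ⊓ (Q ⊓ A) ≤ E ⊓ 𝐂[a] := le_inf e3 fun x hx => el_comm hA.2.1 hx.2.2 ha
  have p : 0 < 𝐨(Q ⊓ A) := Nat.card_pos
  rw [h2] at s4
  by_cases hk : Q ⊓ A ≤ 𝐂[v]
  · rw [inf_eq_right.2 hk] at s5
    have := card_le_of_le s5
    omega
  · have s6 := H1.card_inf_mul_relIndex 𝐂[v] (Q ⊓ A)
    rw [t.rel inf_le_left hk] at s6
    obtain ⟨r, hr, hrv⟩ := not_forall₂.1 hk
    have s7 : 2 * 𝐨(E ⊓ 𝐂[a] ⊓ 𝐂[r]) ≤ 𝐨(E ⊓ 𝐂[a]) := by
      refine two_le inf_le_left (x := v * (a * v * a⁻¹)) ⟨mul_mem e4 e5, ?_⟩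
        fun h => hrv (k1 r hr.1 ?_)
      · refine mem_cent1_comm.1 (mem_cent1_iff_conj.2 ?_)
        rw [← conj_mul, mem_cent1.1 c1]
        congr 1
        calc _ = (a * a) * v * (a * a)⁻¹ := by group
          _ = v := by rw [aa]; group
      · have h3 := mem_cent1.1 h.2
        simp only [commutatorElement_def]
        rw [inv2 vv]
        calc _ = v * (r * (v * (a * v * a⁻¹))) * (a * v * a⁻¹)⁻¹ * r⁻¹ := by group
          _ = (v * v) * (a * v * a⁻¹) * r * (a * v * a⁻¹)⁻¹ * r⁻¹ := by rw [h3]; group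
          _ = _ := by rw [vv, one_mul]
    have := card_le_of_le (le_inf s5 fun x hx => el_comm hA.2.1 hx.2.2 hr.2 :
      𝐂[v] ⊓ (Q ⊓ A) ≤ E ⊓ 𝐂[a] ⊓ 𝐂[r])
    omega

theorem orbStmt : OrbStmt.{u} := by
  classical
  intro X _ _ T B H z hB zT zH h1 h2 hbot
  have := Fintype.ofFinite X
  let O : Finset X := Finset.univ.filter fun x => ∃ b ∈ B, b * z * b⁻¹ = x
  have mO : ∀ x, x ∈ O ↔ ∃ b ∈ B, b * z * b⁻¹ = x := fun x => by simp [O]
  have cO : (O : Set X).Pairwise (Function.onFun Commute id) := by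
    intro x hx y hy _
    obtain ⟨b, hb, rfl⟩ := (mO x).1 hx
    obtain ⟨c, hc, rfl⟩ := (mO y).1 hy
    refine mem_cent1_iff_commute.1 ?_
    have := h1 _ (mul_mem (inv_mem hb) hc)
    simp only [id]
    rw [cent1_conj, mem_conj]
    convert this using 1
    group
  have zO : z ∈ O := (mO z).2 ⟨1, one_mem _, by simp⟩
  have w1 : O.noncommProd id cO ∈ T := Subgroup.noncommProd_mem _ _ fun x hx => by
    obtain ⟨b, hb, rfl⟩ := (mO x).1 hx
    exact (mem_normalizer_iff.1 (hB hb) z).1 zT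
  have w2 : O.noncommProd id cO ∈ 𝐂(B) := mem_cent_iff_cent1.2 fun b hb => by
    refine mem_cent1_iff_conj.2 ?_
    have e := Finset.map_noncommProd O id cO (MulAut.conj b)
    have e' : O.map (MulAut.conj b).toEquiv.toEmbedding = O := by
      refine Finset.eq_of_subset_of_card_le (fun x hx => ?_) (by simp)
      obtain ⟨y, hy, rfl⟩ := Finset.mem_map.1 hx
      obtain ⟨c, hc, rfl⟩ := (mO y).1 hy
      exact (mO _).2 ⟨b * c, mul_mem hb hc, by simp [mul_assoc]⟩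
    refine e.trans ?_
    unfold Finset.noncommProd
    congr 1
    rw [Multiset.map_id]
    exact congrArg Finset.val e'
  have w3 : O.noncommProd id cO = 1 := mem_bot.1 (hbot ▸ mem_inf.2 ⟨w1, w2⟩)
  rw [← Finset.mul_noncommProd_erase O zO] at w3
  refine zH ?_
  rw [show z = _ from eq_inv_of_mul_eq_one_left w3]
  refine inv_mem (Subgroup.noncommProd_mem _ _ fun x hx => ?_)
  obtain ⟨b, hb, rfl⟩ := (mO x).1 (Finset.mem_of_mem_erase hx)
  exact (h2 b hb).resolve_left (Finset.ne_of_mem_erase hx)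

end Cfsg.Agent.P19
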