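/-
P19, chapter EA: the case `R < C_T(z)`.
-/
import Cfsg.Agent.P19.KC

set_option autoImplicit false
set_option linter.unusedSectionVars false
set_option linter.style.haveILetI false

namespace Cfsg.Agent.P19

open Subgroup Cfsg Cfsg.Agent Cfsg.Agent.FT
open Cfsg.Agent.H7.SC (oz jj)
open Cfsg.Agent.H5 (elemMax)
open scoped commutatorElement

universe u

variable {X : Type u} [Group X] [Finite X]

namespace EA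

open K

theorem four (Φ : X → Prop) (hsq : ∀ u, Φ u → Φ (u * u)) : ∀ (k : ℕ) (u : X), u ^ 2 ^ k = 1 →
    u * u ≠ 1 → Φ u → ∃ c, Φ c ∧ c * c ≠ 1 ∧ c * c * (c * c) = 1 := by
  intro k
  induction k with
  | zero => intro u h h1; simp at h; simp [h] at h1
  | succ k ih =>
    intro u h h1 h2
    by_cases e : u * u * (u * u) = 1
    · exact ⟨u, h2, h1, e⟩
    · exact ih (u * u) (by rw [← pow_two, ← pow_mul, ← pow_succ', h]) e (hsq u h2)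

/-- The abstract configuration. -/
structure Cfg (T P R : Subgroup X) (y z : X) : Prop where
  two : IsPGroup 2 T
  hP : P = T ⊓ 𝐂[y]
  RT : R ≤ T
  tv : Tv R y z
  nP : T ⊓ 𝐍(P) ≤ R
  nz : z ∉ ⁅P, P⁆

namespace Cfg

variable {T P R : Subgroup X} {y z : X} (c : Cfg T P R y z)
include c

theorem PT : P ≤ T := c.hP ▸ inf_le_left

theorem Py : P ≤ 𝐂[y] := c.hP ▸ inf_le_right

theorem PR : P ≤ R := (le_inf c.PT (le_norm_self P)).trans c.nP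

theorem RS : R ≤ T ⊓ 𝐂[z] := le_inf c.RT c.tv.cz

theorem mem {x : X} (h1 : x ∈ T) (h2 : x ∈ 𝐂[y]) : x ∈ P := c.hP ▸ mem_inf.2 ⟨h1, h2⟩

theorem nil {L : Subgroup X} (h : L ≤ T) : Group.IsNilpotent L :=
  isNilpotent_of_isPGroup Nat.prime_two (c.two.to_le h)

theorem conjP {n : X} (hn : n ∈ 𝐍(T)) : P ^ᵍ n = T ⊓ 𝐂[n * y * n⁻¹] := by
  rw [c.hP, conj_inf, conj_eq_of_mem_norm hn, cent1_conj]

theorem yc {n : X} (hn : n ∈ 𝐍(T)) : n * y * n⁻¹ ∈ T :=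
  (mem_normalizer_iff.1 hn y).1 (c.RT c.tv.vQ)

theorem key {n t : X} (hn : n ∈ T ⊓ 𝐂[z]) (h : n * y * n⁻¹ ∈ 𝐂[y]) (ht : t ∈ P)
    (ht' : t ∈ R ^ᵍ n) : t ∈ P ^ᵍ n := by
  have hn' := le_norm_self T hn.1
  rw [c.conjP hn']
  refine mem_inf.2 ⟨c.PT ht, by_contra fun e => c.nz ?_⟩
  have := (c.tv.conj n).eq ht' e
  rw [mem_cent1_iff_conj.1 hn.2] at this
  exact this ▸ commutator_mem_commutator (c.mem (c.yc hn') h) ht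

theorem pair {σ : X} (hσ : σ ∈ T ⊓ 𝐂[z]) (h : σ * y * σ⁻¹ ∈ 𝐂[y]) : σ ∈ R := by
  by_contra hR
  obtain ⟨σ, ⟨hσ, h, hR⟩, hm⟩ := Set.exists_max_image
    {σ : X | σ ∈ T ⊓ 𝐂[z] ∧ σ * y * σ⁻¹ ∈ 𝐂[y] ∧ σ ∉ R} (fun σ => 𝐨(P ⊓ P ^ᵍ σ))
    (Set.toFinite _) ⟨σ, hσ, h, hR⟩
  have cl : ∀ τ ∈ T ⊓ 𝐂[z], τ * y * τ⁻¹ ∈ 𝐂[y] → τ ∉ R → 𝐨(P ⊓ P ^ᵍ σ) ≤ 𝐨(P ⊓ P ^ᵍ τ) →
      (∃ t ∈ P, t ∈ 𝐍(P ⊓ P ^ᵍ τ) ∧ t ∉ P ^ᵍ τ) ∧ T ⊓ 𝐂[z] ⊓ 𝐍(P ⊓ P ^ᵍ τ) ≤ R := by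
    intro τ hτ h hR hle
    obtain ⟨t, t1, t2, t3⟩ := H1.exists_mem_normalizer_of_lt (c.nil c.PT)
      (lt_of_le_of_ne (inf_le_left : P ⊓ P ^ᵍ τ ≤ P) fun e => hR (c.nP (mem_inf.2 ⟨hτ.1,
        inv_mem_iff.1 (mem_norm_of_conj_le (le_conj_iff.1 (inf_eq_left.1 e)))⟩)))
    refine ⟨⟨t, t1, t2, fun e => t3 ⟨t1, e⟩⟩, by_contra fun e => ?_⟩
    obtain ⟨n, ⟨n1, n2⟩, n3, n4⟩ := H1.exists_mem_normalizer_of_lt
      (c.nil (inf_le_left.trans inf_le_left))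
      (lt_of_le_of_ne (inf_le_left : T ⊓ 𝐂[z] ⊓ 𝐍(P ⊓ P ^ᵍ τ) ⊓ R ≤ _) fun e' =>
        e (inf_eq_left.1 e'))
    have y0 : y ∈ P ⊓ P ^ᵍ τ := mem_inf.2 ⟨c.mem (c.RT c.tv.vQ) (self_mem_cent1 y), by
      rw [c.conjP (le_norm_self T hτ.1)]
      exact mem_inf.2 ⟨c.RT c.tv.vQ, mem_cent1_comm.1 h⟩⟩
    have y1 : n * y * n⁻¹ ∈ 𝐂[y] := c.Py ((mem_normalizer_iff.1 n2 y).1 y0).1
    have l : P ⊓ P ^ᵍ τ ≤ P ⊓ P ^ᵍ n :=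
      le_inf inf_le_left (conj_eq_of_mem_norm n2 ▸ conj_mono inf_le_left n)
    have l' := H1.eq_of_le_of_card_le l ((hm n ⟨n1, y1, fun r => n4 ⟨⟨n1, n2⟩, r⟩⟩).trans hle)
    have t4 : t ∈ (T ⊓ 𝐂[z] ⊓ 𝐍(P ⊓ P ^ᵍ τ) ⊓ R) ^ᵍ n := by
      rw [conj_eq_of_mem_norm n3]
      exact mem_inf.2 ⟨mem_inf.2 ⟨c.RS (c.PR t1), t2⟩, c.PR t1⟩
    exact t3 (l' ▸ mem_inf.2 ⟨t1, c.key n1 y1 t1 (conj_mono inf_le_right n t4)⟩)
  obtain ⟨t, t1, t2, t3⟩ := (cl σ hσ h hR le_rfl).1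
  have e : P ⊓ P ^ᵍ σ⁻¹ = (P ⊓ P ^ᵍ σ) ^ᵍ σ⁻¹ := by rw [conj_inf, conj_conj_inv, inf_comm]
  have h2 := (cl σ⁻¹ (inv_mem hσ) (by
    have := conj_mem_conj (mem_cent1_comm.1 h) σ⁻¹
    rwa [cent1_conj, conj_conj_inv] at this) (fun r => hR (inv_mem_iff.1 r))
    (by rw [e, card_conj])).2
  refine t3 (c.key hσ h t1 (mem_conj.2 (h2 (mem_inf.2 ⟨?_, ?_⟩))))
  · exact mul_mem (mul_mem (inv_mem hσ) (c.RS (c.PR t1))) hσ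
  · rw [e, norm_conj, mem_conj]
    simpa [mul_assoc] using t2

theorem sq {d : X} (hd : d ∈ T ⊓ 𝐂[z]) (h : y * d * y⁻¹ = d⁻¹) (h1 : d * d ≠ 1)
    (h2 : d * d * (d * d) = 1) : d * d = z := by
  have e : ⁅y, d⁆ = d * d := by rw [commutatorElement_def, h, ← mul_inv_rev, inv2 h2]
  have r := c.pair hd (by
    rw [cj c.tv.vv, e]
    refine mul_mem (self_mem_cent1 y) (mem_cent1_comm.1 (mem_cent1_iff_conj.2 ?_))
    rw [← conj_mul, h, ← mul_inv_rev, inv2 h2])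
  exact e ▸ (c.tv.br d r).resolve_left (e ▸ h1)

theorem dih {δ : X} (hδ : δ ∈ 𝐍(T)) (h1 : δ * y * δ⁻¹ ∈ 𝐂[z]) (h2 : y ∈ 𝐂[δ * z * δ⁻¹])
    (h : δ * z * δ⁻¹ ≠ z) : δ * y * δ⁻¹ ∈ 𝐂[y] := by
  by_contra n
  have t := c.tv.conj δ
  have yT := c.RT c.tv.vQ
  obtain ⟨k, hk⟩ := c.two ⟨_, mul_mem yT (c.yc hδ)⟩
  obtain ⟨d, ⟨d1, d2, d3, d4⟩, d5, d6⟩ := four (fun u => u ∈ T ⊓ 𝐂[z] ∧ u ∈ 𝐂[δ * z * δ⁻¹] ∧
      y * u * y⁻¹ = u⁻¹ ∧ δ * y * δ⁻¹ * u * (δ * y * δ⁻¹)⁻¹ = u⁻¹)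
    (fun u ⟨u1, u2, u3, u4⟩ => ⟨mul_mem u1 u1, mul_mem u2 u2, by rw [← conj_mul, u3, mul_inv_rev],
      by rw [← conj_mul (b := δ * y * δ⁻¹), u4, mul_inv_rev]⟩) k (y * (δ * y * δ⁻¹))
    (congrArg Subtype.val hk) (fun e => n (mem_cent1.2 (by
      rw [← inv2 e, mul_inv_rev, inv2 t.vv, inv2 c.tv.vv])))
    ⟨mul_mem (c.RS c.tv.vQ) (mem_inf.2 ⟨c.yc hδ, h1⟩), mul_mem h2 (t.cz t.vQ), by
      rw [mul_inv_rev, inv2 t.vv, ← mul_assoc, c.tv.vv, one_mul], by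
      rw [mul_inv_rev y, inv2 t.vv, inv2 c.tv.vv, mul_assoc, mul_assoc y, t.vv, mul_one]⟩
  have e1 := c.sq d1 d3 d5 d6
  have e2 := c.sq (d := δ⁻¹ * d * δ) (mem_inf.2 ⟨(mem_normalizer_iff''.1 hδ d).1 d1.1, by
      rwa [cent1_conj, mem_conj] at d2⟩)
    (by calc _ = δ⁻¹ * (δ * y * δ⁻¹ * d * (δ * y * δ⁻¹)⁻¹) * δ := by group
      _ = _ := by rw [d4]; group)
    (fun e => d5 (by calc _ = δ * (δ⁻¹ * d * δ * (δ⁻¹ * d * δ)) * δ⁻¹ := by group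
      _ = _ := by rw [e]; group))
    (by calc _ = δ⁻¹ * (d * d * (d * d)) * δ := by group
      _ = _ := by rw [d6]; group)
  refine h ?_
  nth_rewrite 1 [← e2]
  rw [← e1]
  group

theorem main (Orb : OrbStmt.{u}) {s : X} (hs : s ∈ T ⊓ 𝐂[z]) (h1 : s * y * s⁻¹ ∈ R)
    (h2 : s * y * s⁻¹ ∉ 𝐂[y]) {B : Subgroup X} (hB : B ≤ 𝐍(T)) : T ⊓ 𝐂(B) ≠ ⊥ := by
  obtain ⟨L, ⟨l1, l2, l3⟩, hm⟩ := Set.exists_min_image
    {L : Subgroup X | L ≤ T ∧ 𝐍(T) ≤ 𝐍(L) ∧ ¬ L ≤ P} (fun L => 𝐨(L)) (Set.toFinite _)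
    ⟨T, le_rfl, le_rfl, fun h => c.tv.nc (c.RT.trans (h.trans c.Py))⟩
  haveI := c.nil (le_refl T)
  have m1 : ⁅L, T⁆ < L := Agent.L.commutator_lt_of_isNilpotent l1 ((le_norm_self T).trans l2)
    fun e => l3 (e ▸ bot_le)
  have m2 : 𝐍(T) ≤ 𝐍(⁅L, T⁆) := H1.le_normalizer_commutator l2 le_rfl
  have m3 : ⁅L, T⁆ ≤ P := by_contra fun e =>
    (H1.card_lt_of_lt m1).not_ge (hm _ ⟨m1.le.trans l1, m2, e⟩)
  have m4 : L ≤ R := (le_inf l1 (comm_le_right_iff.1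
    ((commutator_mono le_rfl c.PT).trans m3))).trans c.nP
  have m5 : z ∈ ⁅L, T⁆ := by
    obtain ⟨n, hn, e⟩ := not_forall₂.1 l3
    rw [commutator_comm, ← c.tv.eq (m4 hn) fun r => e (c.mem (l1 hn) r)]
    exact commutator_mem_commutator (c.RT c.tv.vQ) hn
  have m6 : ∀ γ ∈ 𝐍(T), γ * z * γ⁻¹ ∈ P := fun γ h => m3 ((mem_normalizer_iff.1 (m2 h) z).1 m5)
  have m7 : ∀ γ ∈ 𝐍(T), γ * z * γ⁻¹ ≠ z → γ * y * γ⁻¹ ∈ 𝐂[y] := fun γ h =>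
    c.dih h (by
      have := conj_mem_conj (mem_cent1_comm.1 (c.Py (m6 _ (inv_mem h)))) γ
      rwa [cent1_conj, conj_inv_conj] at this) (mem_cent1_comm.1 (c.Py (m6 γ h)))
  refine Orb X T B ⁅P, P⁆ z hB (c.RT c.tv.zQ) c.nz (fun b hb => c.tv.cz (c.PR (m6 b (hB hb))))
    fun b hb => (em _).imp_right fun e => ?_
  have hb' := hB hb
  have b1 : b * y * b⁻¹ ∈ P := c.mem (c.yc hb') (m7 b hb' e)
  have b2 : s * y * s⁻¹ ∈ 𝐂[b * y * b⁻¹] := by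
    have := conj_mem_conj (mem_cent1_comm.1 (m7 (s⁻¹ * b)
      (mul_mem (inv_mem (le_norm_self T hs.1)) hb') fun r => e ?_)) s
    · rwa [cent1_conj, conj_conj, mul_inv_cancel_left, ← cent1_conj] at this
    · nth_rewrite 2 [← mem_cent1_iff_conj.1 hs.2]
      nth_rewrite 2 [← r]
      group
  obtain ⟨n, hn, n1⟩ := not_forall₂.1 fun r : L ≤ P ^ᵍ b =>
    l3 (conj_le_conj_iff.1 ((conj_eq_of_mem_norm (l2 hb')).le.trans r))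
  rw [c.conjP hb'] at n1
  rw [← (c.tv.conj b).eq (conj_mono m4 b ((conj_eq_of_mem_norm (l2 hb')).ge hn))
    fun r => n1 (mem_inf.2 ⟨l1 hn, r⟩)]
  by_cases n2 : n ∈ 𝐂[y]
  · exact commutator_mem_commutator b1 (c.mem (l1 hn) n2)
  · have n3 := c.mem (mul_mem (c.RT (m4 hn)) (c.RT h1)) (c.tv.mul (m4 hn) h1 n2 h2)
    have := commutator_mem_commutator b1 n3
    rwa [br_mul, br1.2 b2, mul_one, mul_inv_cancel, mul_one] at this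

end Cfg

end EA

open K

theorem eaStmt (KC : KCStmt.{u}) (Orb : OrbStmt.{u}) : EAStmt.{u} := by
  intro X _ _ T A y a g e hS B hB
  have idx := e.idx
  have hA := e.hA
  have gn := e.gn
  generalize hP : T ⊓ 𝐂[y] = P at idx hA gn hS
  have nP : T ⊓ 𝐍(P) ≤ T ⊓ 𝐍(jj P) :=
    inf_le_inf_left T (H5.normalizer_le_normalizer_thompsonSubgroupOf P)
  have RS : T ⊓ 𝐂[⁅y, a⁆] ≠ T ⊓ 𝐍(jj P) := fun r => hS (r.le.trans inf_le_right)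
  have RT : T ⊓ 𝐍(jj P) ≤ T := inf_le_left
  generalize T ⊓ 𝐍(jj P) = R at idx hA nP RS RT
  have mP : ∀ x, x ∈ P ↔ x ∈ T ∧ x ∈ 𝐂[y] := fun x => hP ▸ mem_inf
  have PT : P ≤ T := fun x hx => ((mP x).1 hx).1
  have PR : P ≤ R := (le_inf PT (le_norm_self P)).trans nP
  have aR := hA.1 e.ha
  have aP : a ∉ P := fun h => e.ay ((mP a).1 h).2
  have RN : R ≤ 𝐍(P) := (normal_subgroupOf_iff_le_normalizer PR).1 (normal_of_index_eq_two idx)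
  have m2 : ∀ q ∈ R, q ∉ P → a⁻¹ * q ∈ P := fun q hq h =>
    (mul2 idx (inv_mem aR) hq).2 (iff_of_false (fun r => aP (inv_mem_iff.1 r)) h)
  have tv : Tv R y ⁅y, a⁆ := ⟨PR ((mP y).2 ⟨e.yT, self_mem_cent1 y⟩), e.yy, fun q hq => by
    by_cases h : q ∈ P
    · exact .inl (br1.2 ((mP q).1 h).2)
    · refine .inr ?_
      rw [← mul_inv_cancel_left a q, br_mul, br1.2 ((mP _).1 (m2 q hq h)).2]
      simp, fun h => e.ay (h aR)⟩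
  have gz := e.gz
  generalize ⁅y, a⁆ = z at tv RS gz
  obtain ⟨s, s1, s2, s3⟩ := H1.exists_mem_normalizer_of_lt (isNilpotent_of_isPGroup Nat.prime_two
    (e.two.to_le (inf_le_left : T ⊓ 𝐂[z] ≤ T))) (lt_of_le_of_ne (le_inf RT tv.cz) RS.symm)
  have tv' := tv.conjN s2
  rw [mem_cent1_iff_conj.1 s1.2] at tv'
  have vP : s * y * s⁻¹ ∉ P := fun h => by
    have t := (tv'.mono PR h fun r => s3 (nP (mem_inf.2 ⟨s1.1, inv_mem_iff.1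
      (mem_norm_of_conj_le (le_conj_iff.1 (by
        nth_rewrite 2 [← hP]
        rw [conj_inf, conj_eq_of_mem s1.1, ← cent1_conj]
        exact le_inf PT r)))⟩))).conjN gn
    refine gz (mem_cent1_comm.1 (KC X P A (hA.1.trans RN)
      (H5.mem_elemMax_of_le (sup_le PR hA.1) hA le_sup_right) ?_ _ t.vQ t.vv _ t.br t.nc e.ha))
    exact relIndex_eq_two_iff_exists_notMem_and'.2 ⟨a⁻¹, inv_mem e.ha,
      fun r => aP (inv_mem_iff.1 r), fun b hb => (em (b ∈ P)).elim .inr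
        fun r => .inl (m2 b (hA.1 hb) r)⟩
  have zc : z ∈ 𝐂(P) := mem_cent_iff_cent1.2 (PR.trans tv.cz)
  refine EA.Cfg.main ⟨e.two, hP.symm, RT, tv, nP, fun h => gz ?_⟩ Orb s1 tv'.vQ
    (fun r => vP ((mP _).2 ⟨RT tv'.vQ, r⟩)) hB
  have c0 : ⁅P, zpowers (s * y * s⁻¹)⁆ ≤ 𝐂(P) :=
    H1.commutator_zpowers_le (H1.le_normalizer_centralizer RN tv'.vQ) fun p hp => by
      rw [← commutatorElement_inv]
      exact inv_mem ((tv'.br p (PR hp)).elim (fun r => r ▸ one_mem _) fun r => r ▸ zc)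
  have c1 : ⁅P, P⁆ ≤ 𝐂[s * y * s⁻¹] := by
    rw [← cent_zpowers, ← comm_eq_bot_iff]
    refine commutator_commutator_eq_bot_of_rotate (comm_eq_bot_iff.2 c0) (comm_eq_bot_iff.2 ?_)
    rwa [commutator_comm]
  have c2 := c1 ((mem_normalizer_iff.1 (norm_le_norm_der P gn) z).1 h)
  have c3 : g * z * g⁻¹ ∈ 𝐂(P) :=
    (mem_normalizer_iff.1 (H1.le_normalizer_centralizer le_rfl gn) z).1 zc
  have c4 := mul_mem (mem_cent1_comm.1 c2) (inv_mem (mem_cent_iff_cent1.1 c3 (m2 _ tv'.vQ vP)))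
  rw [mul_inv_rev a⁻¹, inv_inv, mul_inv_cancel_left] at c4
  exact mem_cent1_comm.1 c4

end Cfsg.Agent.P19
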