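/-
P19, chapter M3: transvections.
-/
import Cfsg.Agent.P19.M0

set_option autoImplicit false
set_option linter.unusedSectionVars false
set_option linter.style.haveILetI false

namespace Cfsg.Agent.P19

open Subgroup Cfsg Cfsg.Agent Cfsg.Agent.FT
open Cfsg.Agent.H7.SC (oz jj oz_le le_cent_oz elemAb_oz)
open Cfsg.Agent.H5 (elemMax)
open scoped commutatorElement

universe u

variable {X : Type u} [Group X] [Finite X]

theorem idx2 {H K : Subgroup X} (h : H.relIndex K = 2) {a b : X} (ha : a ∈ K) (hb : b ∈ K)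
    (a0 : a ∉ H) (b0 : b ∉ H) : a * b ∈ H :=
  (mul_mem_iff_of_index_two (H := H.subgroupOf K) h (a := ⟨a, ha⟩) (b := ⟨b, hb⟩)).2
    (iff_of_false a0 b0)

theorem idx2' {H K : Subgroup X} (h : H.relIndex K = 2) {a b : X} (ha : a ∈ K) (hb : b ∈ K)
    (a0 : a ∉ H) (b0 : b ∉ H) : a⁻¹ * b ∈ H :=
  idx2 h (inv_mem ha) hb (mt inv_mem_iff.1 a0) b0

/-- The data of chapter M3. -/
structure Tw (T J A : Subgroup X) (g y a : X) : Prop extends Sel T J A where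
  gn : g ∈ 𝐍(J)
  ne : oz T ^ᵍ g ≠ oz T
  i1 : (oz T).relIndex (oz T ^ᵍ g) = 2
  i2 : 𝐂(oz T ^ᵍ g).relIndex A = 2
  hy : y ∈ oz T ^ᵍ g
  y0 : y ∉ oz T
  ha : a ∈ A
  a0 : a ∉ 𝐂(oz T ^ᵍ g)

namespace Tw

variable {T J A : Subgroup X} {g y a : X} (s : Tw T J A g y a)
include s

local notation "V" => H2.nclIn 𝐍(J) (oz T)

theorem pc : T ⊓ 𝐂[y] ≤ 𝐂(oz T ^ᵍ g) := fun t ht w hw => by
  by_cases e : w ∈ oz T
  · exact le_cent_oz T ht.1 w e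
  have h1 := le_cent_oz T ht.1 _ (idx2' s.i1 s.hy hw s.y0 e)
  calc w * t = y * (y⁻¹ * w * t) := by group
    _ = _ := by rw [h1, ← mul_assoc, mem_cent1.1 ht.2]; group

theorem jp : J ≤ T ⊓ 𝐂[y] := le_inf s.le ((s.toSel.le_cz s.gn).trans (cent_le_cent1 s.hy))

theorem jj_eq : jj (T ⊓ 𝐂[y]) = J :=
  s.uniq _ (s.sylT.pgrp.to_le inf_le_left) s.jp g s.gn 1 (one_mem _) s.pc
    (by rw [conj_one]; exact inf_le_left.trans (le_cent_oz T)) (by rw [conj_one]; exact s.ne)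

theorem aT : a ∈ T := (s.hA.1 s.ha).1

theorem aH : a ∈ 𝐍(J) := (s.hA.1 s.ha).2

theorem ay : a ∉ 𝐂[y] := fun e => s.a0 (s.pc ⟨s.aT, e⟩)

theorem yy : y ^ 2 = 1 := (elemAb_conj (elemAb_oz T) g).2 y s.hy

theorem a0j : 𝐂(oz T ^ᵍ g) ⊓ A ≤ J := by
  have h1 : T ⊓ 𝐂[y] ≤ T ⊓ 𝐍(J) := le_inf inf_le_left
    (s.jj_eq ▸ (le_norm_self _).trans (H5.normalizer_le_normalizer_thompsonSubgroupOf _))
  have h2 : 𝐂(oz T ^ᵍ g) ⊓ A < (𝐂(oz T ^ᵍ g) ⊓ A) ⊔ zpowers y := lt_of_le_of_ne le_sup_left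
    fun e => s.ay (mem_cent1.2
      (le_cent_self s.toSel.el s.ha y (e.ge (mem_sup_right (mem_zpowers y))).2))
  rw [← s.jj_eq]
  refine h2.le.trans (H5.le_thompsonSubgroupOf ⟨sup_le (le_inf
    ((inf_le_right.trans s.hA.1).trans inf_le_left) (inf_le_left.trans (cent_le_cent1 s.hy)))
    ((zpowers_le.2 (s.toSel.z_le s.gn s.hy)).trans s.jp), elemAb_sup
    (elemAb_of_le inf_le_right s.toSel.el) (elemAb_zpowers s.yy)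
    (cent_comm.1 (inf_le_left.trans (cent_anti (zpowers_le.2 s.hy)))), fun B b1 b2 =>
      (s.hA.2.2 B (b1.trans h1) b2).trans ?_⟩)
  rw [← H1.card_inf_mul_relIndex 𝐂(oz T ^ᵍ g) A, s.i2, ← H1.card_mul_relIndex h2.le]
  refine Nat.mul_le_mul_left _ ?_
  have h3 := H2.relIndex_pos (𝐂(oz T ^ᵍ g) ⊓ A) ((𝐂(oz T ^ᵍ g) ⊓ A) ⊔ zpowers y)
  have h4 := mt relIndex_eq_one.1 h2.not_ge
  omega

theorem vel : IsElementaryAbelian 2 V := s.toSel.ncl_el le_rfl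

theorem vj : J ≤ 𝐂(V) := cent_comm.1 ((s.toSel.ncl_le le_rfl).trans inf_le_right)

theorem yV : y ∈ V := H2.conj_le_nclIn _ s.gn s.hy

theorem cv {h v : X} (hh : h ∈ 𝐍(J)) (hv : v ∈ V) : h * v * h⁻¹ ∈ V :=
  (mem_normalizer_iff.1 (H2.le_normalizer_nclIn _ _ hh) v).1 hv

theorem iv : 𝐂[a].relIndex V = 2 := by
  have h1 : 𝐂[a].relIndex V ≤ A.relIndex V := relIndex_le_of_le_left
    ((le_cent_self s.toSel.el).trans (cent_le_cent1 s.ha)) (H2.relIndex_pos _ _).ne'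
  have h2 := offender s.hA s.vel (((s.toSel.ncl_le le_rfl).trans inf_le_left).trans s.toSel.le_R)
  have h3 : 𝐂(V).relIndex A ≤ (𝐂(oz T ^ᵍ g) ⊓ A).relIndex A :=
    relIndex_le_of_le_left (s.a0j.trans s.vj) (H2.relIndex_pos _ _).ne'
  rw [inf_relIndex_right, s.i2] at h3
  have h4 := H2.relIndex_pos 𝐂[a] V
  have h5 : 𝐂[a].relIndex V ≠ 1 := fun e => s.ay (mem_cent1_comm.1 (relIndex_eq_one.1 e s.yV))
  omega

theorem zV : ⁅y, a⁆ ∈ V := by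
  rw [show ⁅y, a⁆ = y * (a * y⁻¹ * a⁻¹) by group]
  exact mul_mem s.yV (s.cv s.aH (inv_mem s.yV))

theorem za : ⁅y, a⁆ ∈ 𝐂[a] := by
  rw [← commutatorElement_inv]
  exact inv_mem (cent_le_cent1 s.ha (le_cent_self s.toSel.el (s.quad a s.ha y s.yV)))

theorem tv {v : X} (hv : v ∈ V) (h : v ∉ 𝐂[a]) : a * v * a⁻¹ = v * ⁅y, a⁆ := by
  have h1 := mem_cent1.1 (idx2' s.iv hv s.yV h (mt mem_cent1_comm.1 s.ay))
  have e : ∀ w ∈ V, w⁻¹ = w := fun w hw =>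
    inv_eq_of_mul_eq_one_right (by rw [← pow_two]; exact s.vel.2 w hw)
  have h2 : a * v * a⁻¹ = (a * y * a⁻¹) * (v⁻¹ * y)⁻¹ := by
    calc a * v * a⁻¹ = a * y * (a * (v⁻¹ * y))⁻¹ := by group
      _ = _ := by rw [h1]; group
  rw [h2, e _ (mul_mem (inv_mem hv) s.yV), le_cent_self s.vel (mul_mem (inv_mem hv) s.yV) _
    (s.cv s.aH s.yV), e v hv, commutatorElement_def, e y s.yV]
  group

theorem fixa {h k : X} (hh : h ∈ 𝐍(J)) (hk : k ∈ 𝐍(J)) (e : h * a * h⁻¹ ∈ 𝐍(oz T ^ᵍ k)) :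
    oz T ^ᵍ k = oz T ^ᵍ h := by
  refine s.toSel.fix hh hk ?_
  have k0 : ∀ x ∈ 𝐂(oz T ^ᵍ g) ⊓ A, h * x * h⁻¹ ∈ 𝐍(oz T ^ᵍ k) := fun x hx =>
    cent_le_norm _ (s.toSel.le_cz hk ((mem_normalizer_iff.1 hh x).1 (s.a0j hx)))
  intro w hw
  obtain ⟨x, hx, rfl⟩ := mem_conj'.1 hw
  by_cases e' : x ∈ 𝐂(oz T ^ᵍ g)
  · exact k0 x ⟨e', hx⟩
  · have := mul_mem e (k0 _ (mem_inf.2 ⟨idx2' s.i2 s.ha hx s.a0 e', mul_mem (inv_mem s.ha) hx⟩))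
    rwa [conj_mul, mul_inv_cancel_left] at this

theorem t1 {h : X} (hh : h ∈ 𝐍(J)) (hne : oz T ^ᵍ h ≠ oz T) : h * ⁅y, a⁆ * h⁻¹ ∉ 𝐂[a] := by
  intro e
  have hb : h * a * h⁻¹ ∈ 𝐍(J) := mul_mem (mul_mem hh s.aH) (inv_mem hh)
  have z1 : oz T ≤ 𝐂[a] := (cent_comm.1 s.toSel.A_cz).trans (cent_le_cent1 s.ha)
  have h1 : oz T ^ᵍ (h * a * h⁻¹) ≤ 𝐂[a] := fun w hw => by
    obtain ⟨x, hx, rfl⟩ := mem_conj'.1 hw
    have h2 := s.cv (inv_mem hh) (H2.le_nclIn _ _ hx)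
    rw [show h * a * h⁻¹ * x * (h * a * h⁻¹)⁻¹ = h * (a * (h⁻¹ * x * h⁻¹⁻¹) * a⁻¹) * h⁻¹ by group]
    by_cases e' : h⁻¹ * x * h⁻¹⁻¹ ∈ 𝐂[a]
    · rw [mem_cent1_iff_conj.1 (mem_cent1_comm.1 e')]
      simpa [mul_assoc] using z1 hx
    · rw [s.tv h2 e', ← conj_mul]
      exact mul_mem (by simpa [mul_assoc] using z1 hx) e
  have h2 := s.fixa (one_mem _) hb (by
    simpa using cent_le_norm _ (mem_cent_iff_cent1.2 h1))
  rw [conj_one] at h2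
  have h3 := s.fixa hh (one_mem _) (by rw [conj_one]; exact conj_eq_self_iff.1 h2)
  rw [conj_one] at h3
  exact hne h3.symm

theorem t1' {h k : X} (hh : h ∈ 𝐍(J)) (hk : k ∈ 𝐍(J)) (e : h * ⁅y, a⁆ * h⁻¹ ∈ 𝐂[k * a * k⁻¹]) :
    oz T ^ᵍ h = oz T ^ᵍ k := by
  by_contra hne
  refine s.t1 (mul_mem (inv_mem hk) hh) (fun e' => hne ?_) ?_
  · rwa [← conj_conj, conj_eq_iff, inv_inv] at e'
  · rw [cent1_conj, mem_conj] at e
    convert e using 1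
    group

theorem t2 {h : X} (hh : h ∈ 𝐍(J)) (h1 : oz T ^ᵍ h ≠ oz T) (h2 : oz T ^ᵍ h ≠ oz T ^ᵍ g) :
    oz T ^ᵍ h = oz T ^ᵍ (a * g) := by
  have h3 : 𝐂[h * a * h⁻¹].relIndex V = 2 := by
    rw [cent1_conj, ← s.iv, ← relIndex_conj 𝐂[a] V h,
      conj_eq_of_mem_norm (H2.le_normalizer_nclIn _ _ hh)]
  have h4 := idx2 h3 (s.cv s.gn s.zV) s.zV (fun e => h2 (s.t1' s.gn hh e).symm) fun e => h1 (by
    simpa only [conj_one] using (s.t1' (one_mem _) hh (by simpa using e)).symm)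
  rw [← s.tv (s.cv s.gn s.zV) (s.t1 s.gn s.ne)] at h4
  refine (s.t1' (mul_mem s.aH s.gn) hh ?_).symm
  convert h4 using 1
  group

theorem dich {t : X} (ht : t ∈ T ⊓ 𝐍(J)) : t ∈ T ⊓ 𝐂[y] ∨ a⁻¹ * t ∈ T ⊓ 𝐂[y] := by
  have k : ∀ w ∈ T, w ∈ 𝐍(oz T ^ᵍ g) → w ∈ T ⊓ 𝐂[y] := fun w hw e => ⟨hw, cent_le_cent1 s.hy
    (cent_of_norm s.sylT (s.sylT.pgrp.to_le (zpowers_le.2 hw)) (zpowers_le.2 e) (mem_zpowers w))⟩
  by_cases e : oz T ^ᵍ (t * g) = oz T ^ᵍ g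
  · exact Or.inl (k t ht.1 (conj_eq_self_iff.1 (by rwa [conj_conj])))
  have h1 := s.t2 (mul_mem ht.2 s.gn) (fun e' => s.ne (by
    rwa [← conj_conj, conj_eq_iff,
      conj_eq_of_mem_norm (cent_le_norm _ (le_cent_oz T (inv_mem ht.1)))] at e')) e
  refine Or.inr (k _ (mul_mem (inv_mem s.aT) ht.1) (conj_eq_self_iff.1 ?_))
  rw [conj_conj, mul_assoc, ← conj_conj, h1, conj_conj, inv_mul_cancel_left]

theorem pr : T ⊓ 𝐂[y] ≤ T ⊓ 𝐍(J) := le_inf inf_le_left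
  (s.jj_eq ▸ (le_norm_self _).trans (H5.normalizer_le_normalizer_thompsonSubgroupOf _))

theorem idx : (T ⊓ 𝐂[y]).relIndex (T ⊓ 𝐍(J)) = 2 := by
  refine relIndex_eq_two_iff.2 ⟨a, ⟨s.aT, s.aH⟩, fun b hb => ?_⟩
  by_cases e : b ∈ T ⊓ 𝐂[y]
  · exact Or.inr ⟨e, fun e' => s.ay ((mul_mem_cancel_left e).1 e').2⟩
  · refine Or.inl ⟨?_, e⟩
    have := inv_mem ((s.dich (inv_mem hb)).resolve_left (mt inv_mem_iff.1 e))
    rwa [mul_inv_rev, inv_inv, inv_inv] at this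

theorem pv : T ⊓ 𝐂[y] ≤ 𝐂(V) := by
  refine cent_comm.1 (H2.nclIn_le_iff.2 fun h hh => cent_comm.1 ?_)
  change _ ≤ 𝐂(oz T ^ᵍ h)
  by_cases e1 : oz T ^ᵍ h = oz T
  · rw [e1]; exact inf_le_left.trans (le_cent_oz T)
  by_cases e2 : oz T ^ᵍ h = oz T ^ᵍ g
  · rw [e2]; exact s.pc
  rw [s.t2 hh e1 e2, ← conj_conj, cent_conj]
  intro t ht
  rw [mem_conj, mul_assoc]
  exact s.pc ((s.dich (mul_mem (s.pr ht) ⟨s.aT, s.aH⟩)).resolve_left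
    fun e => s.ay ((mul_mem_cancel_left ht).1 e).2)

theorem e2 : ∃ g', E2 T A y a g' := by
  have hK : 𝐍(J) ⊓ 𝐂(V) ⊲ 𝐍(J) := ⟨inf_le_left, H1.le_normalizer_inf (le_norm_self _)
    (H1.le_normalizer_centralizer (H2.le_normalizer_nclIn _ _))⟩
  have h1 := s.syl.inf_normal Nat.prime_two hK
  rw [show T ⊓ 𝐍(J) ⊓ (𝐍(J) ⊓ 𝐂(V)) = T ⊓ 𝐂[y] from le_antisymm
    (inf_le_inf inf_le_left (inf_le_right.trans (cent_le_cent1 s.yV)))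
    (le_inf s.pr (le_inf (s.pr.trans inf_le_right) s.pv))] at h1
  obtain ⟨k, hk, g', hg', e⟩ := (mem_sup_of_norm (inf_le_left.trans hK.2)).1
    ((h1.frattini Nat.prime_two hK).ge s.gn)
  refine ⟨g', s.sylT.pgrp, (s.toSel.z_le s.gn).trans s.le s.hy, by rw [← pow_two, s.yy],
    s.jj_eq.symm ▸ s.idx, s.jj_eq.symm ▸ s.hA, s.ha, s.ay, hg'.2, fun e' => s.t1 s.gn s.ne ?_⟩
  rw [← e, show k * g' * ⁅y, a⁆ * (k * g')⁻¹ = k * (g' * ⁅y, a⁆ * g'⁻¹) * k⁻¹ by group,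
    ← hk.2 _ (s.cv hg'.1 s.zV), mul_inv_cancel_right]
  exact e'

end Tw

theorem m3Stmt : M3Stmt.{u} := by
  intro X _ _ T J A s g g1 g2 i1 i2
  have i3 : (oz T).relIndex (oz T ^ᵍ g) = 2 := by
    have h1 := H1.card_inf_mul_relIndex (oz T ^ᵍ g) (oz T)
    have h2 := H1.card_inf_mul_relIndex (oz T) (oz T ^ᵍ g)
    rw [card_conj, ← h1, i1, inf_comm] at h2
    exact Nat.eq_of_mul_eq_mul_left Nat.card_pos h2
  obtain ⟨y, y1, y2⟩ := SetLike.not_le_iff_exists.1 fun e : oz T ^ᵍ g ≤ oz T => by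
    rw [relIndex_eq_one.2 e] at i3; omega
  obtain ⟨a, a1, a2⟩ := SetLike.not_le_iff_exists.1 fun e : A ≤ 𝐂(oz T ^ᵍ g) => by
    rw [relIndex_eq_one.2 e] at i2; omega
  exact ⟨y, a, Tw.e2 ⟨s, g1, mt conj_eq_self_iff.1 g2, i3, i2, y1, y2, a1, a2⟩⟩

end Cfsg.Agent.P19
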