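/-
P19, chapter EB: the case `R = C_T(z)`.
-/
import Cfsg.Agent.P19.M3

set_option autoImplicit false
set_option linter.unusedSectionVars false
set_option linter.style.haveILetI false

namespace Cfsg.Agent.P19

open Subgroup Cfsg Cfsg.Agent Cfsg.Agent.FT
open Cfsg.Agent.H7.SC (oz jj oz_le le_cent_oz elemAb_oz)
open Cfsg.Agent.H5 (elemMax)
open scoped commutatorElement

universe u

variable {X : Type u} [Group X] [Finite X]

namespace EB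

/-- `P = C_T(y)`. -/
abbrev pp (T : Subgroup X) (y : X) : Subgroup X := T ⊓ 𝐂[y]

/-- `R = N_T(J(P))`. -/
abbrev rr (T : Subgroup X) (y : X) : Subgroup X := T ⊓ 𝐍(jj (T ⊓ 𝐂[y]))

theorem idx_of {H K : Subgroup X} {s : X} (hs : s ∈ K) (h0 : s ∉ H)
    (h : ∀ t ∈ K, t ∈ H ∨ t * s ∈ H) : H.relIndex K = 2 :=
  relIndex_eq_two_iff.2 ⟨s, hs, fun t ht => by
    by_cases e : t ∈ H
    · exact Or.inr ⟨e, fun k => h0 ((H.mul_mem_cancel_left e).1 k)⟩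
    · exact Or.inl ⟨(h t ht).resolve_left e, e⟩⟩

theorem em_of_card {P R A B : Subgroup X} (hA : A ∈ elemMax 2 R) (hB : B ∈ elemMax 2 P) (h : B ≤ R)
    (h' : A ≤ P) : B ∈ elemMax 2 R :=
  ⟨h, hB.2.1, fun C h1 h2 => (hA.2.2 C h1 h2).trans (hB.2.2 A h' hA.2.1)⟩

theorem jj_le_jj {P R A : Subgroup X} (hA : A ∈ elemMax 2 R) (h : jj P ≤ R) (h' : A ≤ P) :
    jj P ≤ jj R := by
  conv_lhs => rw [jj, H5.thompsonSubgroupOf_eq_sSup]
  exact sSup_le fun B hB => H5.le_thompsonSubgroupOf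
    (em_of_card hA hB ((H5.le_thompsonSubgroupOf hB).trans h) h')

section Basic

variable {T A : Subgroup X} {y a g : X} (s : E2 T A y a g)
include s

theorem pr : pp T y ≤ rr T y :=
  le_inf inf_le_left ((le_norm_self _).trans (H5.normalizer_le_normalizer_thompsonSubgroupOf _))

theorem yP : y ∈ pp T y := ⟨s.yT, self_mem_cent1 y⟩

theorem aR : a ∈ rr T y := s.hA.1 s.ha

theorem aP : a ∉ pp T y := fun h => s.ay h.2

theorem aa : a * a = 1 := by rw [← sq]; exact s.hA.2.1.2 a s.ha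

theorem rn : rr T y ≤ 𝐍(pp T y) :=
  (normal_subgroupOf_iff_le_normalizer (pr s)).1 (normal_of_index_eq_two s.idx)

theorem cm {t : X} (ht : t ∈ rr T y) (h : t ∉ pp T y) : ⁅y, t⁆ = ⁅y, a⁆ := by
  have h1 := mem_cent1.1 (idx2' s.idx (aR s) ht (aP s) h).2
  have h2 : t * y⁻¹ * t⁻¹ = a * y⁻¹ * a⁻¹ := by
    calc t * y⁻¹ * t⁻¹ = a * (y⁻¹ * (y * (a⁻¹ * t)) * y⁻¹) * t⁻¹ := by group
      _ = _ := by rw [h1]; group
  rw [commutatorElement_def, commutatorElement_def, mul_assoc y t, mul_assoc y, h2, mul_assoc y a,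
    mul_assoc y]

theorem cm' {t : X} (ht : t ∈ rr T y) : ⁅y, t⁆ = 1 ∨ ⁅y, t⁆ = ⁅y, a⁆ := by
  by_cases h : t ∈ pp T y
  · exact Or.inl (commutatorElement_eq_one_iff_mul_comm.2 (mem_cent1.1 h.2))
  · exact Or.inr (cm s ht h)

theorem yi : y⁻¹ = y := inv_eq_of_mul_eq_one_right s.yy

theorem zd : ⁅y, a⁆ = y * (a * y * a⁻¹) := by rw [commutatorElement_def, yi s]; group

theorem ya : a * y * a⁻¹ ∈ pp T y ⊓ 𝐂(pp T y) := by
  have e := conj_eq_of_mem_norm (rn s (aR s))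
  have h1 : y ∈ pp T y ⊓ 𝐂(pp T y) := ⟨yP s, mem_cent_iff_cent1.2 inf_le_right⟩
  have h2 := conj_mem_conj h1 a
  rwa [conj_inf, ← cent_conj, e] at h2

theorem zP : ⁅y, a⁆ ∈ pp T y := zd s ▸ mul_mem (yP s) (ya s).1

theorem zz : ⁅y, a⁆ * ⁅y, a⁆ = 1 := by
  have h := mem_cent1.1 (ya s).1.2
  rw [zd s]
  calc y * (a * y * a⁻¹) * (y * (a * y * a⁻¹)) = y * (a * y * a⁻¹ * y) * (a * y * a⁻¹) := by group
    _ = (y * y) * (a * (y * y) * a⁻¹) := by rw [← h]; group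
    _ = 1 := by rw [s.yy]; group

theorem z1 : ⁅y, a⁆ ≠ 1 := fun h => s.ay (mem_cent1.2 (commutatorElement_eq_one_iff_mul_comm.1 h))

theorem rz : rr T y ≤ 𝐂[⁅y, a⁆] := by
  have h1 : pp T y ≤ 𝐂[⁅y, a⁆] := mem_cent_iff_cent1.1
    (zd s ▸ mul_mem (mem_cent_iff_cent1.2 inf_le_right) (ya s).2)
  have h2 : a ∈ 𝐂[⁅y, a⁆] := by
    have h := mem_cent1.1 (ya s).1.2
    have ai : a⁻¹ = a := inv_eq_of_mul_eq_one_right (aa s)
    rw [mem_cent1_iff_conj, zd s, h]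
    calc a * (a * y * a⁻¹ * y) * a⁻¹ = (a * a) * y * (a⁻¹ * y * a⁻¹) := by group
      _ = _ := by rw [aa s, one_mul, ← h]; nth_rw 1 [ai]
  intro t ht
  by_cases h : t ∈ pp T y
  · exact h1 h
  · exact (mul_mem_cancel_left (inv_mem h2)).1 (h1 (idx2' s.idx (aR s) ht (aP s) h))

theorem idxB {B : Subgroup X} (hB : B ≤ rr T y) (h : ¬ B ≤ pp T y) : (pp T y).relIndex B = 2 := by
  obtain ⟨b, hb, b0⟩ := SetLike.not_le_iff_exists.1 h
  exact idx_of hb b0 fun t ht => or_iff_not_imp_left.2 fun t0 => idx2 s.idx (hB ht) (hB hb) t0 b0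

theorem star {B : Subgroup X} (hB : B ∈ elemMax 2 (rr T y)) (h : ¬ B ≤ pp T y) :
    pp T y ⊓ B ⊔ zpowers y ∈ elemMax 2 (rr T y) ∧ pp T y ⊓ B ⊔ zpowers y ≤ pp T y ∧
      B.relIndex (pp T y ⊓ B ⊔ zpowers y) = 2 := by
  have h1 : pp T y ⊓ B ⊔ zpowers y ≤ pp T y := sup_le inf_le_left (zpowers_le.2 (yP s))
  have yB : y ∉ B := fun k => h (le_inf (hB.1.trans inf_le_left)
    ((le_cent_self hB.2.1).trans (cent_le_cent1 k)))
  have hc : zpowers y ≤ 𝐂(pp T y ⊓ B) :=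
    zpowers_le.2 (mem_cent_iff_cent1.2 (inf_le_left.trans inf_le_right))
  have he : IsElementaryAbelian 2 (pp T y ⊓ B ⊔ zpowers y) :=
    elemAb_sup (elemAb_of_le inf_le_right hB.2.1) (elemAb_zpowers (by rw [sq, s.yy])) hc
  have h2 : B ⊓ (pp T y ⊓ B ⊔ zpowers y) = pp T y ⊓ B :=
    le_antisymm (le_inf (inf_le_right.trans h1) inf_le_left) (le_inf inf_le_right le_sup_left)
  have h3 := H1.card_inf_mul_relIndex B (pp T y ⊓ B ⊔ zpowers y)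
  have h4 := H1.card_inf_mul_relIndex (pp T y) B
  rw [h2] at h3
  rw [idxB s hB.1 h] at h4
  have h5 := hB.2.2 _ (h1.trans (pr s)) he
  have h6 : B.relIndex (pp T y ⊓ B ⊔ zpowers y) ≠ 1 := fun k =>
    yB (relIndex_eq_one.1 k (mem_sup_right (mem_zpowers y)))
  have h7 := L.relIndex_ne_zero B (pp T y ⊓ B ⊔ zpowers y)
  have p : 0 < 𝐨(pp T y ⊓ B) := Nat.card_pos
  have h8 : B.relIndex (pp T y ⊓ B ⊔ zpowers y) = 2 := by
    rw [← h3, ← h4] at h5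
    have := Nat.le_of_mul_le_mul_left h5 p
    omega
  refine ⟨⟨h1.trans (pr s), he, fun C c1 c2 => ?_⟩, h1, h8⟩
  rw [← h3, h8, h4]
  exact hB.2.2 C c1 c2

theorem nA : ¬ A ≤ pp T y := fun h => aP s (h s.ha)

theorem b1 {B : Subgroup X} (hB : B ∈ elemMax 2 (rr T y)) : pp T y ⊓ B ≤ jj (pp T y) := by
  by_cases h : B ≤ pp T y
  · exact inf_le_right.trans (H5.le_thompsonSubgroupOf (H5.mem_elemMax_of_le (pr s) hB h))
  · exact le_sup_left.trans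
      (H5.le_thompsonSubgroupOf (H5.mem_elemMax_of_le (pr s) (star s hB h).1 (star s hB h).2.1))

theorem yJ : y ∈ jj (rr T y) :=
  H5.le_thompsonSubgroupOf (star s s.hA (nA s)).1 (mem_sup_right (mem_zpowers y))

theorem aJ : a ∈ jj (rr T y) := H5.le_thompsonSubgroupOf s.hA s.ha

theorem zJ : ⁅y, a⁆ ∈ jj (rr T y) :=
  mul_mem (mul_mem (mul_mem (yJ s) (aJ s)) (inv_mem (yJ s))) (inv_mem (aJ s))

theorem jpr : jj (pp T y) ≤ jj (rr T y) :=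
  jj_le_jj (star s s.hA (nA s)).1 ((jj_le _).trans (pr s)) (star s s.hA (nA s)).2.1

theorem conjE {c : X} (hc : c ∈ 𝐍(T)) : pp T (c * y * c⁻¹) = pp T y ^ᵍ c ∧
    rr T (c * y * c⁻¹) = rr T y ^ᵍ c ∧
    E2 T (A ^ᵍ c) (c * y * c⁻¹) (c * a * c⁻¹) (c * g * c⁻¹) := by
  have e := conj_eq_of_mem_norm hc
  have h1 : T ⊓ 𝐂[c * y * c⁻¹] = (T ⊓ 𝐂[y]) ^ᵍ c := by rw [conj_inf, e, cent1_conj]
  have h2 : T ⊓ 𝐍(jj (T ⊓ 𝐂[c * y * c⁻¹])) = (T ⊓ 𝐍(jj (T ⊓ 𝐂[y]))) ^ᵍ c := by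
    rw [h1, jj_conj, norm_conj, conj_inf T 𝐍(_), e]
  refine ⟨h1, h2, s.two, e ▸ conj_mem_conj s.yT c, ?_, ?_, h2 ▸ em_conj s.hA c,
    conj_mem_conj s.ha c, ?_, ?_, ?_⟩
  · calc c * y * c⁻¹ * (c * y * c⁻¹) = c * (y * y) * c⁻¹ := by group
      _ = 1 := by rw [s.yy]; group
  · rw [h2, h1, relIndex_conj, s.idx]
  · rw [cent1_conj, conj_mem_conj_iff]; exact s.ay
  · rw [h1, norm_conj, conj_mem_conj_iff]; exact s.gn
  · rw [cent1_conj, ← conjugate_commutatorElement, mem_conj]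
    convert s.gz using 2
    group

end Basic

/-- (O) for two sets of data with the same `J(R)`. -/
theorem orth2 (hKC : KCStmt.{u}) {T A A' : Subgroup X} {y a g v b g' : X} (s : E2 T A y a g)
    (s' : E2 T A' v b g') (hJ : jj (rr T v) = jj (rr T y))
    (hc : 𝐨(jj (pp T v)) = 𝐨(jj (pp T y))) (ne : ⁅v, b⁆ ≠ ⁅y, a⁆) : g * ⁅v, b⁆ * g⁻¹ ∈ 𝐂[a] := by
  have r1 : jj (rr T y) ≤ rr T v := hJ ▸ jj_le _
  have r2 : jj (rr T v) ≤ rr T y := hJ ▸ jj_le _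
  have em : ∀ B ∈ elemMax 2 (rr T v), B ∈ elemMax 2 (rr T y) := fun B hB =>
    em_of_card s.hA hB ((H5.le_thompsonSubgroupOf hB).trans r2)
      ((H5.le_thompsonSubgroupOf s.hA).trans r1)
  have vR := r2 (yJ s')
  have vP : v ∈ pp T y := by
    by_contra h
    have h1 := cm s vR h
    rw [← commutatorElement_inv] at h1
    rcases cm' s' (r1 (yJ s)) with e | e
    · exact z1 s (by rw [← h1, e, inv_one])
    · exact ne (by rw [← h1, e, inv_eq_of_mul_eq_one_right (zz s')])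
  obtain ⟨k1, k2, k3⟩ := star s' s'.hA (nA s')
  have vJ : v ∈ jj (pp T y) := b1 s (em _ k1) ⟨vP, mem_sup_right (mem_zpowers v)⟩
  by_cases h : jj (pp T y) ≤ 𝐂[v]
  · exfalso
    have h1 : jj (pp T y) ≤ pp T v := le_inf ((jj_le _).trans inf_le_left) h
    have h2 : jj (pp T y) = jj (pp T v) := by
      refine H1.eq_of_le_of_card_le ?_ hc.le
      conv_lhs => rw [jj, H5.thompsonSubgroupOf_eq_sSup]
      refine sSup_le fun B hB => H5.le_thompsonSubgroupOf (H5.mem_elemMax_of_le (pr s') ?_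
        ((H5.le_thompsonSubgroupOf hB).trans h1))
      have h3 := em_of_card (star s s.hA (nA s)).1 hB (hB.1.trans (pr s)) (star s s.hA (nA s)).2.1
      exact em_of_card s'.hA h3 ((H5.le_thompsonSubgroupOf h3).trans r1) (em _ s'.hA).1
    have bP : b ∉ pp T y := fun k => aP s' (h1 (b1 s (em _ s'.hA) ⟨k, s'.ha⟩))
    have e1 := cm s (r2 (aJ s')) bP
    have h4 : pp T v ⊓ A' ⊔ zpowers v ≤ 𝐂[y] :=
      ((H5.le_thompsonSubgroupOf (H5.mem_elemMax_of_le (pr s') k1 k2)).trans h2.ge).trans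
        ((jj_le _).trans inf_le_right)
    have h5 : y ∈ pp T v ⊓ A' ⊔ zpowers v := zpowers_le.1 (le_em (em _ k1)
      (elemAb_zpowers (by rw [sq, s.yy])) (zpowers_le.2 (pr s (yP s)))
      (zpowers_le.2 (mem_cent_iff_cent1.2 h4)))
    have cb := (le_cent_self s'.hA.2.1).trans (cent_le_cent1 s'.ha)
    have h6 := mem_cent1.1 (cb (idx2 k3 h5 (mem_sup_right (mem_zpowers v))
      (fun k => bP ⟨(aR s').1, mem_cent1_comm.1 (cb k)⟩) fun k => s'.ay (mem_cent1_comm.1 (cb k))))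
    refine ne ?_
    rw [← e1, commutatorElement_def, commutatorElement_def]
    calc v * b * v⁻¹ * b⁻¹ = v * (b * (b * (y * v))⁻¹ * b) * (y * b⁻¹) := by group
      _ = y⁻¹ * b * y * b⁻¹ := by rw [h6]; group
      _ = _ := by rw [yi s]
  have gJ : jj (pp T y) ^ᵍ g = jj (pp T y) :=
    conj_eq_of_mem_norm (H5.normalizer_le_normalizer_thompsonSubgroupOf (p := 2) _ s.gn)
  have hA := s.hA.1
  refine mem_cent1_comm.1 (hKC X (jj (pp T y)) A (hA.trans inf_le_right)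
    (H5.mem_elemMax_of_le (sup_le ((jj_le _).trans (pr s)) hA) s.hA le_sup_right) ?_
    (g * v * g⁻¹) (gJ ▸ conj_mem_conj vJ g) ?_ _ (fun q hq => ?_) (fun k => h ?_) s.ha)
  · rw [← idxB s hA (nA s), ← inf_relIndex_right, ← inf_relIndex_right (pp T y)]
    congr 1
    exact le_antisymm (inf_le_inf_right _ (jj_le _)) (le_inf (b1 s s.hA) inf_le_right)
  · calc g * v * g⁻¹ * (g * v * g⁻¹) = g * (v * v) * g⁻¹ := by group
      _ = 1 := by rw [s'.yy]; group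
  · rw [← gJ] at hq
    obtain ⟨q', hq', rfl⟩ := mem_conj'.1 hq
    rw [← conjugate_commutatorElement]
    rcases cm' s' (r1 (jpr s hq')) with e | e <;> simp [e]
  · rw [cent1_conj, ← gJ] at k
    exact conj_le_conj_iff.1 k

theorem orth (hKC : KCStmt.{u}) {T A : Subgroup X} {y a g : X} (s : E2 T A y a g) {c : X}
    (hc : c ∈ 𝐍(T)) (hJ : c ∈ 𝐍(jj (rr T y))) :
    c * ⁅y, a⁆ * c⁻¹ = ⁅y, a⁆ ∨ c * ⁅y, a⁆ * c⁻¹ ∈ 𝐂[a] ^ᵍ g⁻¹ := by
  obtain ⟨e1, e2, s'⟩ := conjE s hc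
  rw [or_iff_not_imp_left, mem_conj, inv_inv, conjugate_commutatorElement]
  exact orth2 hKC s s' (by rw [e2, jj_conj, conj_eq_of_mem_norm hJ])
    (by rw [e1, jj_conj, card_conj])

theorem jx (hKC : KCStmt.{u}) {T A : Subgroup X} {y a g : X} (s : E2 T A y a g)
    (hS : T ⊓ 𝐂[⁅y, a⁆] ≤ 𝐍(jj (T ⊓ 𝐂[y]))) : jj (T ⊓ 𝐍(jj (rr T y))) ≤ 𝐂[⁅y, a⁆] := by
  have zo : ⁅y, a⁆ ∉ 𝐂[a] ^ᵍ g⁻¹ := by rw [mem_conj, inv_inv]; exact s.gz
  have hz := zz s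
  have zJ := zJ s
  have rz := rz s
  have ort := fun c (hc : c ∈ T ⊓ 𝐍(jj (rr T y))) => orth hKC s (le_norm_self T hc.1) hc.2
  have cm' := fun t ht => cm' s (t := t) ht
  generalize ⁅y, a⁆ = z at *
  set J := jj (rr T y) with hJ
  have Jz : J ≤ 𝐂[z] := (jj_le _).trans rz
  have rX : rr T y ≤ T ⊓ 𝐍(J) :=
    le_inf inf_le_left ((le_norm_self _).trans (H5.normalizer_le_normalizer_thompsonSubgroupOf _))
  have zc : ∀ x ∈ T ⊓ 𝐍(J), x * z * x⁻¹ ∈ J ⊓ 𝐂(J) := fun x hx => by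
    have := conj_mem_conj (H := J ⊓ 𝐂(J)) ⟨zJ, mem_cent_iff_cent1.2 Jz⟩ x
    rwa [conj_inf, ← cent_conj, conj_eq_of_mem_norm hx.2] at this
  have hV : H2.nclIn (T ⊓ 𝐍(J)) (zpowers z) ≤ oz J := H2.nclIn_le_iff.2 fun x hx => by
    change zpowers z ^ᵍ x ≤ _
    refine le_omegaOne_of_elemAb ?_ (elemAb_conj (elemAb_zpowers (by rw [sq, hz])) x)
    rw [← zpowers_conj]
    exact zpowers_le.2 (zc x hx)
  by_contra hn
  obtain ⟨E0, e1, e2, e3⟩ := exists_quad (R := T ⊓ 𝐍(J)) (s.two.to_le inf_le_left)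
    (elemAb_of_le hV (elemAb_oz J))
    ⟨hV.trans ((oz_le J).trans ((jj_le _).trans rX)), H2.le_normalizer_nclIn _ _⟩
    fun k => hn (k.trans (cent_le_cent1 (H2.le_nclIn _ _ (mem_zpowers z))))
  obtain ⟨x, hx, e4⟩ : ∃ x ∈ T ⊓ 𝐍(J), ¬ E0 ≤ 𝐂[x * z * x⁻¹] := by
    by_contra! k
    refine e2 (cent_comm.1 (H2.nclIn_le_iff.2 fun x hx => ?_))
    change zpowers z ^ᵍ x ≤ _
    rw [← zpowers_conj]
    exact zpowers_le.2 (mem_cent_iff_cent1.2 (k x hx))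
  rw [cent1_conj, le_conj_iff] at e4
  have e5 : E0 ^ᵍ x⁻¹ ∈ elemMax 2 (T ⊓ 𝐍(J)) := conj_eq_of_mem (inv_mem hx) ▸ em_conj e1 x⁻¹
  have e6 : ∀ t ∈ E0 ^ᵍ x⁻¹, ⁅t, z⁆ ∈ E0 ^ᵍ x⁻¹ := fun t ht => by
    rw [mem_conj, inv_inv] at ht ⊢
    rw [conjugate_commutatorElement]
    exact e3 _ ht _ (H2.conj_le_nclIn _ hx (conj_mem_conj (mem_zpowers z) x))
  generalize E0 ^ᵍ x⁻¹ = E at e4 e5 e6
  obtain ⟨r, hr, r0⟩ := SetLike.not_le_iff_exists.1 e4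
  have zi : z⁻¹ = z := inv_eq_of_mul_eq_one_right hz
  have ec := le_cent_self e5.2.1
  have rr2 : r * r = 1 := by rw [← sq]; exact e5.2.1.2 r hr
  have o : ∀ t ∈ E, t ∉ 𝐂[z] → t * z * t⁻¹ ∈ 𝐂[a] ^ᵍ g⁻¹ := fun t ht t0 =>
    (ort t (e5.1 ht)).resolve_left fun k => t0 (mem_cent1_iff_conj.2 k)
  have dich : ∀ t ∈ E, t ∈ 𝐂[z] ∨ t * r ∈ 𝐂[z] := fun t ht => by
    by_contra! k
    have h1 := mem_cent.1 (ec ht) _ (e6 r hr)
    rw [commutatorElement_def, zi] at h1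
    refine zo ((mul_mem_cancel_left (o r hr r0)).1 ?_)
    have : r * z * r⁻¹ * z = t * r * z * (t * r)⁻¹ * (t * z * t⁻¹) := by
      calc r * z * r⁻¹ * z = r * z * r⁻¹ * z * t * t⁻¹ := by group
        _ = _ := by rw [h1]; group
    rw [this]
    exact mul_mem (o _ (mul_mem ht hr) k.2) (o t ht k.1)
  have hE : E ⊓ 𝐂[z] ≤ T ⊓ 𝐂[z] ⊓ 𝐂[r * z * r⁻¹] := fun t ht =>
    mem_inf.2 ⟨⟨(e5.1 ht.1).1, ht.2⟩, by
      rw [cent1_conj, mem_conj, mul_assoc, ← mem_cent.1 (ec ht.1) r hr, inv_mul_cancel_left]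
      exact ht.2⟩
  have hr' : r ∈ 𝐍(T ⊓ 𝐂[z] ⊓ 𝐂[r * z * r⁻¹]) := by
    rw [← conj_eq_self_iff, conj_inf, conj_inf, conj_eq_of_mem (e5.1 hr).1, cent1_conj, conj_conj,
      rr2, conj_one, inf_right_comm]
  have QR : T ⊓ 𝐂[z] ⊓ 𝐂[r * z * r⁻¹] ≤ rr T y := inf_le_left.trans (le_inf inf_le_left hS)
  have JQ : J ≤ T ⊓ 𝐂[z] ⊓ 𝐂[r * z * r⁻¹] := le_inf (le_inf ((jj_le _).trans inf_le_left) Jz)
    (mem_cent_iff_cent1.1 (zc r (e5.1 hr)).2)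
  refine e4 (hKC X (T ⊓ 𝐂[z] ⊓ 𝐂[r * z * r⁻¹]) E (fun t ht => ?_)
    (H5.mem_elemMax_of_le (sup_le (QR.trans rX) e5.1) e5 le_sup_right)
    (idx_of hr (fun k => r0 k.1.2) fun t ht => (dich t ht).imp (fun k => hE ⟨ht, k⟩)
      fun k => hE ⟨mul_mem ht hr, k⟩) y (JQ (yJ s)) s.yy z (fun q hq => cm' q (QR hq))
    fun k => s.ay (k (JQ (aJ s))))
  rcases dich t ht with k | k
  · exact le_norm_self _ (hE ⟨ht, k⟩)
  · exact (mul_mem_cancel_right hr').1 (le_norm_self _ (hE ⟨mul_mem ht hr, k⟩))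

end EB

open EB in
theorem ebStmt (hKC : KCStmt.{u}) (hO : OrbStmt.{u}) : EBStmt.{u} := by
  intro X _ _ T A y a g s hS B hB
  have h1 := jx hKC s hS
  have rX : rr T y ≤ T ⊓ 𝐍(jj (rr T y)) :=
    le_inf inf_le_left ((le_norm_self _).trans (H5.normalizer_le_normalizer_thompsonSubgroupOf _))
  have h2 : jj (rr T y) = jj (T ⊓ 𝐍(jj (rr T y))) := H5.thompsonSubgroupOf_eq_of_le rX
    ((le_inf ((jj_le _).trans inf_le_left) h1).trans (le_inf inf_le_left hS))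
  have h3 : T ⊓ 𝐍(jj (rr T y)) = T := by
    by_contra k
    refine (lt_inf_norm_of_isNilpotent (isNilpotent_of_isPGroup Nat.prime_two s.two)
      (lt_of_le_of_ne inf_le_left k)).not_ge (inf_le_inf_left _ ?_)
    conv_rhs => rw [h2]
    exact H5.normalizer_le_normalizer_thompsonSubgroupOf _
  rw [h3] at h2
  have h4 : B ≤ 𝐍(jj (rr T y)) :=
    h2 ▸ hB.trans (H5.normalizer_le_normalizer_thompsonSubgroupOf _)
  refine hO X T B (𝐂[a] ^ᵍ g⁻¹) ⁅y, a⁆ hB (zP s).1 (by rw [mem_conj, inv_inv]; exact s.gz)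
    (fun b hb => rz s (jj_le _ ?_)) fun b hb => orth hKC s (hB hb) (h4 hb)
  exact conj_eq_of_mem_norm (h4 hb) ▸ conj_mem_conj (zJ s) b

end Cfsg.Agent.P19
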