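/-
P19, chapter H: the Hall-Higman step, and basic facts on groups without elements of order `2 r`.
-/
import Cfsg.Agent.P19.Defs
import Cfsg.Agent.FT.P.BG03b_1
import Cfsg.Agent.FT.P.BG03a_h5_1
import Cfsg.Agent.H1.Semidirect

set_option autoImplicit false
set_option linter.unusedSectionVars false

namespace Cfsg.Agent.P19

open Subgroup Cfsg Cfsg.Agent Cfsg.Agent.FT
open Cfsg.Agent.H7.SC (oz jj Red)
open scoped commutatorElement

universe u

section basic

variable {X : Type u} [Group X] [Finite X] {r : ℕ} {G : Subgroup X}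

theorem No2.eq_one (h : No2 X r) (hr : r.Prime) (r2 : r ≠ 2) {t x : X} (ht : t ^ 2 = 1)
    (hx : x ∈ 𝐂[t]) (hd : r ∣ orderOf x) : t = 1 := by
  by_contra t1
  have : Fact (Nat.Prime 2) := ⟨Nat.prime_two⟩
  have h0 : orderOf x ≠ 0 := (orderOf_pos x).ne'
  have h1 : orderOf (x ^ (orderOf x / r)) = r := orderOf_pow_orderOf_div h0 hd
  have h2 : Commute t (x ^ (orderOf x / r)) := Commute.pow_right (mem_cent1.1 hx) _
  refine h (t * x ^ (orderOf x / r)) ?_
  rw [h2.orderOf_mul_eq_mul_orderOf_of_coprime, orderOf_eq_prime ht t1, h1]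
  rw [orderOf_eq_prime ht t1, h1]
  exact (Nat.coprime_primes Nat.prime_two hr).2 r2.symm

theorem No2.not_dvd (h : No2 X r) (hr : r.Prime) (r2 : r ≠ 2) {t : X} (ht : t ^ 2 = 1)
    (t1 : t ≠ 1) {H : Subgroup X} (hH : H ≤ 𝐂[t]) : ¬ r ∣ 𝐨(H) := fun hd => by
  have := Fact.mk hr
  obtain ⟨x, hx⟩ := exists_prime_orderOf_dvd_card' (G := H) r hd
  exact t1 (h.eq_one hr r2 ht (hH x.2) (by rw [Subgroup.orderOf_coe, hx]))

theorem le_of_not_dvd [G.Normal] (hr : r.Prime) (hi : G.index = r) {H : Subgroup X}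
    (h : ¬ r ∣ 𝐨(H)) : H ≤ G :=
  relIndex_eq_one.1 (((Nat.dvd_prime hr).1 (hi ▸ relIndex_dvd_index_of_normal G H)).resolve_right
    fun e => h (e ▸ index_dvd_card _))

theorem relIndex_eq_of_not_le [G.Normal] (hr : r.Prime) (hi : G.index = r) {H : Subgroup X}
    (h : ¬ H ≤ G) : G.relIndex H = r :=
  ((Nat.dvd_prime hr).1 (hi ▸ relIndex_dvd_index_of_normal G H)).resolve_left
    fun e => h (relIndex_eq_one.1 e)

theorem No2.cent_le (h : No2 X r) [G.Normal] (hr : r.Prime) (r2 : r ≠ 2) (hi : G.index = r) {t : X}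
    (ht : t ^ 2 = 1) (t1 : t ≠ 1) : 𝐂[t] ≤ G :=
  le_of_not_dvd hr hi (h.not_dvd hr r2 ht t1 le_rfl)

theorem map_subtype_nrm {E : Subgroup X} {K : Subgroup E} (hK : K.Normal) : K.map E.subtype ⊲ E :=
  ⟨map_subtype_le _, fun x hx => mem_norm_of_conj_le fun y hy => by
    obtain ⟨_, ⟨a, ha, rfl⟩, rfl⟩ := mem_conj'.1 hy
    exact ⟨⟨x, hx⟩ * a * ⟨x, hx⟩⁻¹, hK.conj_mem a ha _, rfl⟩⟩

end basic

open H1 in
theorem habs {A V : Type u} [Group A] [Finite A] [Group.IsSolvable A] [Group V] [Finite V]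
    [Nontrivial V] (φ : A →* MulAut V) (hφ : Function.Injective φ) (hc : IsMulCommutative V)
    (h2 : ∀ v : V, v ^ 2 = 1) {r : ℕ} (hr : r.Prime) (r2 : r ≠ 2) (hO : pCore 2 A = ⊥)
    (fpf : ∀ x : A, orderOf x = r → ∀ v, φ x v = v → v = 1) {A0 : Subgroup A} [A0.Normal]
    (hi : A0.index = r) {β : A} (hβ : orderOf β = r) (g : A) : g ∈ 𝐂[β] := by
  have := Fact.mk hr
  have hV : sdL φ (⊤ : Subgroup V) ≠ ⊥ := fun e => top_ne_bot (sdL_eq_bot.1 e)
  have fpf' : ∀ x : A, r ∣ orderOf x → sdL φ ⊤ ⊓ 𝐂[(SemidirectProduct.inr x : V ⋊[φ] A)] = ⊥ := by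
    intro x hx
    rw [eq_bot_iff]
    rintro _ ⟨⟨v, -, rfl⟩, hv⟩
    have h1 := inl_mem_centralizer_inr.1 hv
    rw [fpf _ (orderOf_pow_orderOf_div (orderOf_pos x).ne' hx) v (by
      rw [map_pow, ← zpow_natCast]
      exact MulAction.mem_fixedBy_zpow (α := V) (a := v) (g := φ x) h1 _), map_one]
    exact one_mem _
  have cyc : ∀ R : Subgroup A, IsPGroup r R → IsCyclic R := fun R hR => by
    have := odd_regular_pgroup_cyclic hr r2 (isPGroup_sdR.2 hR) hV
      (sdR_le_normalizer_top R) (by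
        rintro _ ⟨a, ha, rfl⟩ a1
        obtain ⟨k, hk⟩ := IsPGroup.iff_orderOf.1 hR ⟨a, ha⟩
        rw [Subgroup.orderOf_mk] at hk
        refine fpf' a (hk ▸ dvd_pow_self r ?_)
        rintro rfl
        exact a1 (by rw [orderOf_eq_one_iff.1 hk, map_one]))
    exact isCyclic_of_surjective _ (R.equivMapOfInjective
      (SemidirectProduct.inr : A →* V ⋊[φ] A) SemidirectProduct.inr_injective).symm.surjective
  have hB : IsPGroup r (zpowers β) := IsPGroup.of_card (n := 1) (by rw [Nat.card_zpowers, hβ, pow_one])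
  have hodd : Odd r := hr.odd_of_ne_two r2
  have h1 : β ∈ 𝐂(fittingSubgroup A) := by
    rw [mem_cent_iff_cent1, L.fittingSubgroup_eq_iSup_pCore]
    refine iSup_le fun ⟨q, hq⟩ => ?_
    have := Fact.mk hq
    have hQ := L.isPGroup_pCore (G := A) q
    by_cases e2 : q = 2
    · subst e2; exact hO.le.trans bot_le
    by_cases er : q = r
    · subst er
      have := isMulComm_of_isCyclic (cyc _ (hQ.to_sup_of_normal_left hB))
      exact fun x hx => mem_cent1.2 (congrArg Subtype.val (this.is_comm.comm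
        (⟨β, mem_sup_right (mem_zpowers β)⟩ : (pCore q A ⊔ zpowers β : Subgroup A))
        ⟨x, mem_sup_left hx⟩))
    obtain ⟨k, hk⟩ := IsPGroup.iff_card.1 hQ
    have hcB : 𝐨(sdR φ (zpowers β)) = r := by rw [card_sdR, Nat.card_zpowers, hβ]
    have hcK : 𝐨(sdR φ (pCore q A)) = q ^ k := by rw [card_sdR, hk]
    have hoK : Odd (q ^ k) := (hq.odd_of_ne_two e2).pow
    have key := odd_prime_sdprod_fix0 (K := sdR φ (pCore q A)) (R := sdR φ (zpowers β))
      (V := sdL φ ⊤) (L.isSolvable_map _ _) (hcK ▸ hoK) (hcB ▸ hr) (hcB ▸ hodd)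
      ((map_le_norm_iff SemidirectProduct.inr_injective).2 le_normalizer_of_normal)
      (by rw [hcK, hcB]; exact Nat.Coprime.pow_left _ ((Nat.coprime_primes hq hr).2 er))
      Nat.prime_two ⟨isMulCommutative_sdL.2 inferInstance, by
        rintro _ ⟨v, -, rfl⟩; rw [← map_pow, h2, map_one]⟩
      (sdR_le_normalizer_top _) (sdR_le_normalizer_top _)
      (hcK ▸ hoK.not_two_dvd_nat) (hcB ▸ hodd.not_two_dvd_nat)
      (by rw [sdR, MonoidHom.map_zpowers, cent_zpowers]; exact fpf' β hβ.symm.dvd)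
    rw [← map_commutator] at key
    intro x hx
    refine mem_cent1.2 (commutatorElement_eq_one_iff_mul_comm.1 (hφ ?_))
    rw [map_one]
    exact MulEquiv.ext fun v => sdR_le_centralizer_iff.1 key _
      (commutator_mem_commutator (mem_zpowers β) hx) v (mem_top v)
  have h3 : β ∈ pCore r A := L.mem_pCore_of_mem_fittingSubgroup hr (k := 1)
    (by rw [pow_one, ← hβ, pow_orderOf_eq_one]) (L.centralizer_fittingSubgroup_le h1)
  obtain ⟨P, hP⟩ := exists_isSyl hr (⊤ : Subgroup A)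
  have hle : ∀ {Q : Subgroup A}, IsSyl r Q ⊤ → β ∈ Q ∧ IsSyl r Q 𝐂[β] := fun {Q} hQ => by
    have h4 := hQ.le_of_le_norm hr (L.isPGroup_pCore r) le_top le_normalizer_of_normal h3
    have := isMulComm_of_isCyclic (cyc _ hQ.pgrp)
    exact ⟨h4, hQ.of_le (fun x hx => mem_cent1.2 (congrArg Subtype.val
      (this.is_comm.comm (⟨β, h4⟩ : Q) ⟨x, hx⟩))) le_top⟩
  obtain ⟨c, hc, e⟩ := (hle hP).2.exists_conj_eq hr
    (hle (hP.conj_of_mem_norm (g := g) (le_normalizer_of_normal (mem_top g)))).2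
  rw [conj_conj] at e
  obtain ⟨ρ, rfl⟩ := isCyclic_iff_zpowers.1 (cyc _ hP.pgrp)
  obtain ⟨k, hk⟩ := mem_zpowers_iff.1 (e.le (conj_mem_conj (mem_zpowers ρ) _))
  obtain ⟨j, rfl⟩ := mem_zpowers_iff.1 (hle hP).1
  have hρ : (ρ : A ⧸ A0) ≠ 1 := fun e => hP.ndvd (by
    rw [relIndex_top_right, ← hi]
    exact index_dvd_of_le (zpowers_le.2 ((QuotientGroup.eq_one_iff _).1 e)))
  have hq : Nat.card (A ⧸ A0) = r := hi
  have h4 : orderOf (ρ : A ⧸ A0) = r := orderOf_eq_prime (by rw [← hq, pow_card_eq_one']) hρ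
  have h5 : (ρ : A ⧸ A0) ^ k = (ρ : A ⧸ A0) ^ (1 : ℤ) := by
    have : IsCyclic (A ⧸ A0) := isCyclic_of_prime_card hq
    rw [← QuotientGroup.mk_zpow, hk, QuotientGroup.mk_mul, QuotientGroup.mk_mul,
      (inferInstance : IsMulCommutative (A ⧸ A0)).is_comm.comm _ (ρ : A ⧸ A0),
      QuotientGroup.mk_inv, mul_inv_cancel_right, zpow_one]
  rw [zpow_eq_zpow_iff_modEq, h4, ← hβ, ← zpow_eq_zpow_iff_modEq, zpow_one, ← zpow_mul, mul_comm,
    zpow_mul, hk, conj_zpow] at h5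
  exact (mul_mem_cancel_left hc).1 (mem_cent1.2 (mul_inv_eq_iff_eq_mul.1 h5).symm)

theorem hStmt : HStmt.{u} := by
  intro X _ _ r hr r2 h G _ hi E V hs hE hV hn hR β hβ ho
  by_cases V0 : V = ⊥
  · subst V0; exact fun x _ y hy => by rw [mem_bot.1 hy, one_mul, mul_one]
  have := (nontrivial_iff_ne_bot V).2 V0
  let π := (H1.conjAut hn).rangeRestrict
  have hπ : Function.Surjective π := MonoidHom.rangeRestrict_surjective _
  have hk : ∀ e : E, π e = 1 ↔ (e : X) ∈ 𝐂(V) := fun e =>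
    ⟨fun h v hv => by
      have : (e : X) * v * (e : X)⁻¹ = v :=
        congrArg Subtype.val (DFunLike.congr_fun (congrArg Subtype.val h) (⟨v, hv⟩ : V))
      exact (mul_inv_eq_iff_eq_mul.1 this).symm,
    fun h => Subtype.ext (MulEquiv.ext fun v => Subtype.ext
      (mul_inv_eq_iff_eq_mul.2 (h v v.2).symm))⟩
  have : Finite (H1.conjAut hn).range := Finite.of_surjective π hπ
  have : Group.IsSolvable (H1.conjAut hn).range := Group.isSolvable_of_surjective hπ
  have fpf : ∀ e : E, r ∣ orderOf e → ∀ v : V, (e : X) ∈ 𝐂[(v : X)] → v = 1 := fun e he v hv =>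
    Subtype.ext (h.eq_one hr r2 (hV.2 v v.2) hv (by rwa [Subgroup.orderOf_coe]))
  obtain ⟨v, hv⟩ := exists_ne (1 : V)
  have : ((G.subgroupOf E).map π).Normal := Normal.map inferInstance π hπ
  have key := habs (H1.conjAut hn).range.subtype (subtype_injective _) hV.1
    (fun v => Subtype.ext (hV.2 v v.2)) hr r2 ?_ ?_ (A0 := (G.subgroupOf E).map π) ?_
    (β := π ⟨β, hβ⟩) ?_
  · refine commutator_le.2 fun e he b hb => 
      (hk ⁅(⟨e, he⟩ : E), (⟨b, zpowers_le.2 hβ hb⟩ : E)⁆).1 ?_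
    obtain ⟨n, rfl⟩ := mem_zpowers_iff.1 hb
    rw [map_commutatorElement, commutatorElement_eq_one_iff_commute]
    have : π ⟨β ^ n, zpowers_le.2 hβ hb⟩ = π ⟨β, hβ⟩ ^ n := by rw [← map_zpow]; rfl
    rw [this]
    exact Commute.zpow_right (mem_cent1.1 (key _)).symm n
  · have h1 := hR _ (map_subtype_nrm (Normal.comap (inferInstance : (pCore 2 _).Normal) π)) (by
      rintro _ ⟨a, ha, rfl⟩
      obtain ⟨n, e⟩ := L.isPGroup_pCore 2 ⟨π a, ha⟩
      exact ⟨n, (hk (a ^ 2 ^ n)).1 (by rw [map_pow]; exact congrArg Subtype.val e)⟩)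
    rw [eq_bot_iff]
    intro x hx
    obtain ⟨a, rfl⟩ := hπ x
    exact (hk a).2 (h1 ⟨a, hx, rfl⟩)
  · intro x hx w hw
    obtain ⟨a, rfl⟩ := hπ x
    have : (a : X) * w * (a : X)⁻¹ = w := congrArg Subtype.val hw
    exact fpf a (hx ▸ orderOf_map_dvd π a) w (mem_cent1.2 (mul_inv_eq_iff_eq_mul.1 this).symm)
  · rw [index_map_eq _ hπ fun e he => h.cent_le hr r2 hi (hV.2 v v.2)
      (fun e => hv (Subtype.ext e)) (cent_le_cent1 v.2 ((hk e).1 he))]
    exact relIndex_eq_of_not_le hr hi hE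
  · have := Fact.mk hr
    refine orderOf_eq_prime (by
      rw [← map_pow, ← map_one π]; congr 1
      exact Subtype.ext (by rw [← ho]; exact pow_orderOf_eq_one β)) fun e => hv ?_
    exact fpf ⟨β, hβ⟩ (by rw [Subgroup.orderOf_mk, ho]) v (cent_le_cent1 v.2 ((hk _).1 e))

end Cfsg.Agent.P19
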