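/-
P19, chapter G0: reduction to a minimal counterexample.
-/
import Cfsg.Agent.P19.H
import Cfsg.Agent.FT.Final

set_option autoImplicit false
set_option linter.unusedSectionVars false

namespace Cfsg.Agent.P19

open Subgroup Cfsg Cfsg.Agent Cfsg.Agent.FT

universe u

theorem No2.sub {X : Type u} [Group X] {r : ℕ} (h : No2 X r) (E : Subgroup X) : No2 E r :=
  fun g e => h g (by rw [Subgroup.orderOf_coe, e])

theorem No2.surj {X Y : Type u} [Group X] [Finite X] [Group Y] {r : ℕ} (h : No2 X r) {f : X →* Y}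
    (hf : Function.Surjective f) : No2 Y r := fun y e => by
  obtain ⟨x, rfl⟩ := hf y
  exact h _ (orderOf_pow_orderOf_div (orderOf_pos x).ne' (e ▸ orderOf_map_dvd f x))

theorem solv_ext {X : Type u} [Group X] (N : Subgroup X) [N.Normal] (h1 : Group.IsSolvable N)
    (h2 : Group.IsSolvable (X ⧸ N)) : Group.IsSolvable X :=
  Group.isSolvable_of_ker_le_range N.subtype (QuotientGroup.mk' N) (by simp)

theorem cop_of (h1 : G1Stmt.{u}) (h2 : G2Stmt.{u}) : CopStmt.{u} := by
  intro X _ _ r hr r2
  induction hn : Nat.card X using Nat.strong_induction_on generalizing X with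
  | _ n ih =>
  intro h G hG hi
  by_contra ns
  have := Fact.mk hr
  have ind : ∀ E E0 : Subgroup X, E ≠ ⊤ → E0 ⊲ E → E0.relIndex E = r → Group.IsSolvable E :=
    fun E E0 a b c => ih _ (hn ▸ L.card_lt_of_ne_top a) E rfl (h.sub E) (E0.subgroupOf E)
      ((normal_subgroupOf_iff_le_normalizer b.1).2 b.2) c
  have key : ∀ N : Subgroup X, N.Normal → N ≠ ⊥ → N ≤ G → G ≤ N := fun N _ N0 NG => by
    have hπ := QuotientGroup.mk'_surjective N
    have i1 : (G.map (QuotientGroup.mk' N)).index = r := by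
      rw [index_map_eq _ hπ (by rw [QuotientGroup.ker_mk']; exact NG), hi]
    have s1 : Group.IsSolvable (X ⧸ N) := ih _ (by
      rw [← hn, ← N.card_mul_index]
      exact lt_mul_of_one_lt_left (Nat.pos_of_ne_zero index_ne_zero_of_finite)
        ((one_lt_card_iff_ne_bot N).2 N0)) (X ⧸ N) rfl (h.surj hπ) _
      (Normal.map hG _ hπ) i1
    obtain ⟨x, hx⟩ := exists_prime_orderOf_dvd_card' (G := X ⧸ N) r (i1 ▸ index_dvd_card _)
    have NX : N ≤ (zpowers x).comap (QuotientGroup.mk' N) :=
      (QuotientGroup.ker_mk' N).ge.trans (ker_le_comap _ _)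
    have i2 : N.relIndex ((zpowers x).comap (QuotientGroup.mk' N)) = r := by
      rw [L.relIndex_eq_card_map_mk', map_comap_eq_self_of_surjective hπ, Nat.card_zpowers, hx]
    by_cases e : (zpowers x).comap (QuotientGroup.mk' N) = ⊤
    · rw [e, relIndex_top_right] at i2
      have := relIndex_mul_index NG
      rw [i2, hi] at this
      exact relIndex_eq_one.1 (Nat.eq_of_mul_eq_mul_right hr.pos (this.trans (one_mul r).symm))
    · have := ind _ N e ⟨NX, le_normalizer_of_normal⟩ i2
      exact absurd (solv_ext N (L.isSolvable_of_le NX) s1) ns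
  have hM : Mn G r := ⟨hr, r2, h, hG, hi, ns, fun N _ => ?_, ind⟩
  · obtain ⟨T, β, a, b, c, d, e⟩ := h1 X G r hM
    exact h2 X G r hM T β a b c d e
  by_cases N0 : N = ⊥
  · exact Or.inl N0
  by_cases NG : N ⊓ G = ⊥
  · exfalso
    have s1 : Group.IsSolvable (X ⧸ G) := by
      have : IsCyclic (X ⧸ G) := isCyclic_of_prime_card hi
      exact L.isSolvable_of_isMulCommutative _
    have ev : 2 ∣ 𝐨(G) := even_iff_two_dvd.1 (Nat.not_odd_iff_even.1 fun e =>
      ns (solv_ext G (feit_thompson G e) s1))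
    have : Fact (Nat.Prime 2) := ⟨Nat.prime_two⟩
    obtain ⟨t, ht⟩ := exists_prime_orderOf_dvd_card' (G := G) 2 ev
    refine N0 (eq_bot_iff.2 (NG ▸ le_inf le_rfl (le_trans ?_ (h.cent_le hr r2 hi (t := t)
      (by rw [← Subgroup.coe_pow, ← ht, pow_orderOf_eq_one]; rfl) fun e => ?_))))
    · exact (L.le_centralizer_of_normal_of_inf_eq_bot NG).trans (cent_le_cent1 t.2)
    · rw [show t = 1 from Subtype.ext e, orderOf_one] at ht
      omega
  · exact Or.inr ((key _ inferInstance NG inf_le_right).trans inf_le_left)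

end Cfsg.Agent.P19
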