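/-
P19, chapter G1: weak closure in a minimal counterexample.
-/
import Cfsg.Agent.P19.G0
import Cfsg.Agent.P19.M0

set_option autoImplicit false
set_option linter.unusedSectionVars false

namespace Cfsg.Agent.P19

open Subgroup Cfsg Cfsg.Agent Cfsg.Agent.FT
open Cfsg.Agent.H7.SC (oz jj Red oz_le le_cent_oz elemAb_oz norm_le_norm_oz oz_ne_bot red_oz
  le_sup_syl)
open scoped commutatorElement

universe u

variable {X : Type u} [Group X] [Finite X]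

theorem exists_inv_mem {K : Subgroup X} (h : 2 ∣ 𝐨(K)) : ∃ t ∈ K, t ^ 2 = 1 ∧ t ≠ 1 := by
  have : Fact (Nat.Prime 2) := ⟨Nat.prime_two⟩
  obtain ⟨t, ht⟩ := exists_prime_orderOf_dvd_card' (G := K) 2 h
  refine ⟨t, t.2, by rw [← Subgroup.coe_pow, ← ht, pow_orderOf_eq_one]; rfl, fun e => ?_⟩
  rw [show t = 1 from Subtype.ext e, orderOf_one] at ht
  omega

theorem two_dvd_card {K : Subgroup X} (hK : IsPGroup 2 K) (h : K ≠ ⊥) : 2 ∣ 𝐨(K) := by
  have : Fact (Nat.Prime 2) := ⟨Nat.prime_two⟩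
  exact hK.card_eq_or_dvd.resolve_left fun e => h (card_eq_one.1 e)

theorem solv_two {K : Subgroup X} (hK : IsPGroup 2 K) : Group.IsSolvable K :=
  isSolvable_of_isNilpotent (isNilpotent_of_isPGroup Nat.prime_two hK)

/-- The stabilizer of the coset `x K` under conjugation. -/
def cstab (K : Subgroup X) (x : X) : Subgroup X where
  carrier := {g | g ∈ 𝐍(K) ∧ x⁻¹ * (g * x * g⁻¹) ∈ K}
  one_mem' := ⟨one_mem _, by simp⟩
  mul_mem' := fun {a b} ha hb => ⟨mul_mem ha.1 hb.1, by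
    have h := mul_mem ha.2 ((mem_normalizer_iff.1 ha.1 _).1 hb.2)
    convert h using 1
    group⟩
  inv_mem' := fun {a} ha => ⟨inv_mem ha.1, by
    have h := (mem_normalizer_iff.1 (inv_mem ha.1) _).1 (inv_mem ha.2)
    convert h using 1
    group⟩

namespace Mn

variable {G : Subgroup X} {r : ℕ} (m : Mn G r)
include m

theorem cent_le {t : X} (ht : t ^ 2 = 1) (t1 : t ≠ 1) : 𝐂[t] ≤ G :=
  have := m.nrm
  m.no2.cent_le m.pr m.ne2 m.idx ht t1

theorem ndvd {t : X} (ht : t ^ 2 = 1) (t1 : t ≠ 1) {H : Subgroup X} (hH : H ≤ 𝐂[t]) :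
    ¬ r ∣ 𝐨(H) := m.no2.not_dvd m.pr m.ne2 ht t1 hH

theorem ndvd_cent {K H : Subgroup X} (hK : 2 ∣ 𝐨(K)) (hH : H ≤ 𝐂(K)) : ¬ r ∣ 𝐨(H) := by
  obtain ⟨t, h1, h2, h3⟩ := exists_inv_mem hK
  exact m.ndvd h2 h3 (hH.trans (cent_le_cent1 h1))

theorem le_G {H : Subgroup X} (h : ¬ r ∣ 𝐨(H)) : H ≤ G :=
  have := m.nrm
  le_of_not_dvd m.pr m.idx h

theorem cop_two {K : Subgroup X} (hK : IsPGroup 2 K) : r.Coprime 𝐨(K) := by
  have : Fact (Nat.Prime 2) := ⟨Nat.prime_two⟩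
  obtain ⟨k, hk⟩ := IsPGroup.iff_card.1 hK
  rw [hk]
  exact ((Nat.coprime_primes m.pr Nat.prime_two).2 m.ne2).pow_right k

theorem two_le {K : Subgroup X} (hK : IsPGroup 2 K) : K ≤ G :=
  m.le_G (m.pr.coprime_iff_not_dvd.1 (m.cop_two hK))

theorem G_ns : ¬ Group.IsSolvable G := fun h => by
  have := m.nrm
  have := Fact.mk m.pr
  have : IsCyclic (X ⧸ G) := isCyclic_of_prime_card m.idx
  exact m.ns (solv_ext G h (L.isSolvable_of_isMulCommutative _))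

theorem even : 2 ∣ 𝐨(G) :=
  even_iff_two_dvd.1 (Nat.not_odd_iff_even.1 fun e => m.G_ns (feit_thompson G e))

theorem eq_bot_of_solv {N : Subgroup X} (hN : N.Normal) (hs : Group.IsSolvable N) : N = ⊥ :=
  (m.min N hN).resolve_right fun h => m.G_ns (L.isSolvable_of_le h)

theorem norm_ne_top {K : Subgroup X} (hs : Group.IsSolvable K) (h : K ≠ ⊥) : 𝐍(K) ≠ ⊤ :=
  fun e => h (m.eq_bot_of_solv (normalizer_eq_top_iff.1 e) hs)

theorem solv {E : Subgroup X} (h : E ≠ ⊤) (hE : ¬ E ≤ G) : Group.IsSolvable E :=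
  have := m.nrm
  m.ind E (G ⊓ E) h ⟨inf_le_right, H1.le_normalizer_inf le_normalizer_of_normal le_normalizer⟩
    (by rw [inf_relIndex_right]; exact relIndex_eq_of_not_le m.pr m.idx hE)

theorem syl_ne_bot {T : Subgroup X} (hT : IsSyl 2 T ⊤) : T ≠ ⊥ :=
  hT.ne_bot Nat.prime_two (m.even.trans (FT.card_dvd_of_le le_top))

theorem norm_not_le {T : Subgroup X} (hT : IsSyl 2 T ⊤) : ¬ 𝐍(T) ≤ G := fun h => by
  have := m.nrm
  have h1 := (hT.of_le (m.two_le hT.pgrp) le_top).frattini Nat.prime_two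
    (M := ⊤) ⟨le_top, le_normalizer_of_normal⟩
  rw [sup_eq_left.2 (inf_le_right.trans h)] at h1
  exact m.pr.ne_one (by rw [← m.idx, h1, index_top])

theorem fix0 {T : Subgroup X} (hT : IsPGroup 2 T) {β : X} (hβ : orderOf β = r) :
    T ⊓ 𝐂(zpowers β) = ⊥ := by
  by_contra h
  exact m.ndvd_cent (two_dvd_card (hT.to_le inf_le_left) h) (cent_comm.1 inf_le_right)
    (by rw [Nat.card_zpowers, hβ])

theorem not_q2 {T : Subgroup X} (hT : IsSyl 2 T ⊤) {β : X} (hβ : β ∈ 𝐍(T)) (ho : orderOf β = r)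
    (cen : ⁅𝐍(oz T), zpowers β⁆ ≤ 𝐂(oz T)) : ¬ Q2 T := by
  rintro ⟨Z0, D, h1, h2, h3, h4, h5⟩
  have hZ := elemAb_oz T
  have p0 : IsPGroup 2 Z0 := hT.pgrp.to_le (h1.trans (oz_le T))
  obtain ⟨x, hx, x0⟩ := SetLike.not_le_iff_exists.1 fun e : oz T ≤ Z0 => by
    rw [relIndex_eq_one.2 e] at h2; omega
  by_cases e0 : Z0 = ⊥
  · subst e0
    obtain ⟨α, a1, a2⟩ := SetLike.not_le_iff_exists.1 (m.norm_not_le hT)
    have x1 : x ≠ 1 := fun e => x0 (e ▸ one_mem _)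
    obtain ⟨d, hd, e⟩ := h5 x hx x0 _ (H1.conj_mem_of_le_normalizer (norm_le_norm_oz T) a1 hx)
      fun e => x1 (H9.conj_eq_one_iff.1 (mem_bot.1 e))
    refine a2 ((mul_mem_cancel_left (inv_mem (h4 G m.nrm (m.two_le hT.pgrp) hd))).1
      (m.cent_le (hZ.2 x hx) x1 (mem_cent1.2 ?_)))
    calc x * (d⁻¹ * α) = d⁻¹ * (d * x * d⁻¹) * α := by group
      _ = _ := by rw [inv_mul_eq_one.1 (mem_bot.1 e)]; group
  have bZ := norm_le_norm_oz T hβ
  have key : ∀ y ∈ oz T, y ∈ 𝐂(D) → y ∈ Z0 := fun y hy hc => by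
    by_contra y0
    have : Z0.relIndex (oz T) = 2 := by
      refine index_eq_two_iff.2 ⟨⟨y, hy⟩, fun w => ?_⟩
      by_cases w0 : (w : X) ∈ Z0
      · exact Or.inr ⟨w0, fun e => y0 ((mul_mem_cancel_left w0).1 e)⟩
      · obtain ⟨d, hd, e⟩ := h5 y hy y0 w w.2 w0
        rw [mem_cent.1 hc d hd, mul_inv_cancel_right] at e
        refine Or.inl ⟨?_, w0⟩
        show (w : X) * y ∈ Z0
        rwa [mem_cent.1 (le_cent_self hZ hy) w w.2, ← inv_eq_of_mul_eq_one_right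
          ((pow_two y).symm.trans (hZ.2 y hy))]
    omega
  have b0 : β ∈ 𝐍(Z0) := mem_normalizer_fintype fun y hy => by
    refine key _ (H1.conj_mem_of_le_normalizer le_rfl bZ (h1 hy)) fun d hd => ?_
    have c1 := cen (commutator_mem_commutator (inv_mem (h3 hd).1) (inv_mem (mem_zpowers β))) y
      (h1 hy)
    have c2 := (h3 hd).2 y hy
    calc d * (β * y * β⁻¹) = β * d * (⁅d⁻¹, β⁻¹⁆ * y) * β⁻¹ := by
          simp only [commutatorElement_def]; group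
      _ = β * (y * d) * ⁅d⁻¹, β⁻¹⁆ * β⁻¹ := by rw [← c1, c2]; group
      _ = _ := by simp only [commutatorElement_def]; group
  obtain ⟨d, hd, e⟩ := h5 x hx x0 _ (H1.conj_mem_of_le_normalizer le_rfl bZ hx)
    fun e => x0 ((mem_normalizer_iff.1 b0 x).2 e)
  have d0 : d ∈ 𝐍(Z0) := cent_le_norm _ (h3 hd).2
  have h6 : d⁻¹ * β ∈ cstab Z0 x := ⟨mul_mem (inv_mem d0) b0, by
    have := (mem_normalizer_iff.1 (inv_mem d0) _).1 e
    convert this using 1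
    group⟩
  let π := H1.conjAut (le_refl 𝐍(oz T))
  have h7 : Commute (π ⟨d, (h3 hd).1⟩) (π ⟨β, bZ⟩) := by
    rw [← commutatorElement_eq_one_iff_commute, ← map_commutatorElement]
    exact MulEquiv.ext fun v => Subtype.ext (mul_inv_eq_iff_eq_mul.2
      (cen (commutator_mem_commutator (h3 hd).1 (mem_zpowers β)) v v.2).symm)
  have h8 : π ((⟨d, (h3 hd).1⟩⁻¹ * ⟨β, bZ⟩) ^ orderOf d) = π (⟨β, bZ⟩ ^ orderOf d) := by
    rw [map_pow, map_mul, map_inv, h7.inv_left.mul_pow, inv_pow, ← map_pow, ← map_pow,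
      show (⟨d, (h3 hd).1⟩ : 𝐍(oz T)) ^ orderOf d = 1 from Subtype.ext (pow_orderOf_eq_one d),
      map_one, inv_one, one_mul]
  have h9 : (d⁻¹ * β) ^ orderOf d * x * ((d⁻¹ * β) ^ orderOf d)⁻¹ =
      β ^ orderOf d * x * (β ^ orderOf d)⁻¹ :=
    congrArg Subtype.val (DFunLike.congr_fun h8 (⟨x, hx⟩ : oz T))
  have h10 : zpowers (β ^ orderOf d) ≤ cstab Z0 x :=
    zpowers_le.2 ⟨pow_mem b0 _, h9 ▸ (pow_mem h6 _).2⟩
  have h11 : orderOf (β ^ orderOf d) = r := by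
    rw [Nat.Coprime.orderOf_pow, ho]
    rw [ho, m.pr.coprime_iff_not_dvd]
    exact fun e => m.ndvd_cent (two_dvd_card p0 e0) (h3.trans inf_le_right)
      (e.trans (orderOf_dvd_card_of_mem hd))
  obtain ⟨n, hn, c⟩ := H1.exists_mul_mem_centralizer' (fun a ha => (h10 ha).1)
    (by rw [Nat.card_zpowers, h11]; exact m.cop_two p0)
    (Or.inr (solv_two p0)) fun a ha => (h10 ha).2
  have := mem_bot.1 ((m.fix0 hT.pgrp h11).le ⟨oz_le T (mul_mem hx (h1 hn)), c⟩)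
  exact x0 ((mul_mem_cancel_right hn).1 (this ▸ one_mem _))

end Mn

theorem g1Stmt (hH : HStmt.{u}) (h1 : M1Stmt.{u}) (h2 : M2Stmt.{u}) (h3 : M3Stmt.{u})
    (hA : EAStmt.{u}) (hB : EBStmt.{u}) : G1Stmt.{u} := by
  intro X _ _ G r m
  have := m.nrm
  have := Fact.mk m.pr
  have : Fact (Nat.Prime 2) := ⟨Nat.prime_two⟩
  obtain ⟨T, hT⟩ := exists_isSyl Nat.prime_two (⊤ : Subgroup X)
  have T0 := m.syl_ne_bot hT
  have hN := m.norm_not_le hT
  obtain ⟨⟨β, hβ⟩, ho⟩ := exists_prime_orderOf_dvd_card' (G := 𝐍(T)) r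
    (by_contra fun h => hN (m.le_G h))
  rw [Subgroup.orderOf_mk] at ho
  have H := fun (E V K : Subgroup X) (a : IsPGroup 2 K) (b : K ≠ ⊥) (c : E = 𝐍(K))
    (d : 𝐍(T) ≤ E) e f g => hH X r m.pr m.ne2 m.no2 G m.nrm m.idx E V
      (m.solv (c ▸ m.norm_ne_top (solv_two a) b)
        fun h => hN (d.trans h)) (fun h => hN (d.trans h)) e f g β (d hβ) ho
  have cen := H _ (oz T) (oz T) (hT.pgrp.to_le (oz_le T)) (oz_ne_bot hT.pgrp T0) rfl
    (norm_le_norm_oz T) (elemAb_oz T) le_rfl ((red_oz T).up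
      (hT.of_le ((le_norm_self T).trans (norm_le_norm_oz T)) le_top) le_rfl
      ((le_norm_self T).trans (norm_le_norm_oz T)) le_rfl)
  refine ⟨T, β, hT, hβ, ho, cen, ?_⟩
  have NJ : 𝐍(T) ≤ 𝐍(jj T) := H5.normalizer_le_normalizer_thompsonSubgroupOf T
  have TJ := (le_norm_self T).trans NJ
  have ZC : oz T ≤ 𝐂(jj T) := (cent_comm.1 (le_cent_oz T)).trans (cent_anti (jj_le T))
  have v1 : H2.nclIn 𝐍(jj T) (oz T) ≤ oz (jj T) := H2.nclIn_le_of_normal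
    (le_omegaOne_of_elemAb (le_inf (le_jj (elemAb_oz T) (oz_le T) ZC) ZC) (elemAb_oz T))
    (norm_le_norm_oz _)
  have v2 := elemAb_of_le v1 (elemAb_oz _)
  have v3 := H2.le_normalizer_nclIn 𝐍(jj T) (oz T)
  have v4 := H _ _ (jj T) (hT.pgrp.to_le (jj_le T)) (H5.thompsonSubgroupOf_ne_bot hT.pgrp T0) rfl
    NJ v2 v3 fun K hK hk => by
      have h7 : K ≤ 𝐂(oz T) := (le_sup_syl (hK.1.trans (H1.le_normalizer_centralizer v3))
        ((hT.of_le TJ le_top).inf_normal Nat.prime_two hK) hk).trans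
        (sup_le (inf_le_left.trans (le_cent_oz T)) (cent_anti (H2.le_nclIn _ _)))
      rw [cent_comm]
      exact H2.nclIn_le_of_normal (cent_comm.1 h7) (H1.le_normalizer_centralizer hK.2)
  have v5 := H1.commutator_sup_centralizer (zpowers_le.2 hβ)
    (by rw [Nat.card_zpowers, ho]; exact m.cop_two hT.pgrp)
    (Or.inr (solv_two hT.pgrp))
  rw [m.fix0 hT.pgrp ho, sup_bot_eq] at v5
  have v6 : H2.nclIn 𝐍(jj T) (oz T) ≤ oz T := le_omegaOne_of_elemAb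
    (le_inf (v1.trans ((oz_le _).trans (jj_le T)))
      (cent_comm.1 (v5.ge.trans ((commutator_mono TJ le_rfl).trans v4)))) v2
  rcases h1 X T hT (H2.nclIn_eq_self_iff.1 (le_antisymm v6 (H2.le_nclIn _ _))) with h | ⟨J, A, s⟩
  · exact h
  exfalso
  rcases h2 X T J A s with h | ⟨g, a, b, c, d⟩
  · exact m.not_q2 hT hβ ho cen h
  obtain ⟨y, a, g, e⟩ := h3 X T J A s g a b c d
  by_cases h : T ⊓ 𝐂[⁅y, a⁆] ≤ 𝐍(jj (T ⊓ 𝐂[y]))
  · exact hB X T A y a g e h _ (zpowers_le.2 hβ) (m.fix0 hT.pgrp ho)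
  · exact hA X T A y a g e h _ (zpowers_le.2 hβ) (m.fix0 hT.pgrp ho)

end Cfsg.Agent.P19
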