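/-
P19, chapter G2: the weakly closed case.
-/
import Cfsg.Agent.P19.Defs
import Cfsg.Agent.P14.B3

set_option autoImplicit false
set_option linter.unusedSectionVars false

namespace Cfsg.Agent.P19

open Subgroup Cfsg Cfsg.Agent Cfsg.Agent.FT Cfsg.Agent.P14
open Cfsg.Agent.H7.SC (oz od br od_le oz_le le_cent_oz elemAb_oz norm_le_norm_oz)
open Cfsg.Agent.H2.ZC (oc wc oc_le oc_cop le_norm_oc le_wc wc_le wc_mono wc_conj)
open scoped commutatorElement

universe u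

variable {X : Type u} [Group X] [Finite X]

namespace G2

theorem zstar_rel {Y T : Subgroup X} (hT : IsSyl 2 T Y) {t : X} (ht : t ∈ T) (tt : t ^ 2 = 1)
    (h : ∀ g ∈ Y, g * t * g⁻¹ ∈ T → g * t * g⁻¹ = t) {g : X} (hg : g ∈ Y) : ⁅t, g⁆ ∈ od Y := by
  by_cases t1 : t = 1
  · simp [t1]
  obtain ⟨P, hP⟩ := hT.exists_sylow Nat.prime_two
  exact ⟨_, P1.zstar_sylow P (t := ⟨t, hT.le ht⟩) (orderOf_eq_prime (Subtype.ext tt)
    fun e => t1 (congrArg Subtype.val e)) (hP.ge ht) (fun g hg => Subtype.ext (h g g.2 (hP.le hg)))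
    ⟨g, hg⟩, rfl⟩

section Mn

variable {G : Subgroup X} {r : ℕ} (h : Mn G r)
include h

theorem eq_bot {N : Subgroup X} (hN : N.Normal) (hs : Group.IsSolvable N) : N = ⊥ :=
  (h.min N hN).resolve_right fun e => h.ns (by
    haveI := h.nrm
    haveI := Fact.mk h.pr
    haveI := H1.isSolvable_of_le e hs
    haveI := isCyclic_of_prime_card (α := X ⧸ G) h.idx
    haveI := H1.isSolvable_of_isMulCommutative (X := X ⧸ G) inferInstance
    exact Group.isSolvable_of_ker_le_range G.subtype (QuotientGroup.mk' G) (by simp))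

theorem norm_ne {K : Subgroup X} (h0 : K ≠ ⊥) (hs : Group.IsSolvable K) : 𝐍(K) ≠ ⊤ := fun e =>
  h0 (eq_bot h (normal_iff_top_le.2 e.ge) hs)

theorem le_G {K : Subgroup X} (hK : ¬ r ∣ 𝐨(K)) : K ≤ G := by
  haveI := h.nrm
  exact relIndex_eq_one.1 (((Nat.dvd_prime h.pr).1 (h.idx ▸ relIndex_dvd_index_of_normal G K)
    ).resolve_right fun e => hK (e ▸ relIndex_dvd_card G K))

theorem not_mem_cent {t x : X} (tt : t ^ 2 = 1) (t1 : t ≠ 1) (hx : orderOf x = r) : x ∉ 𝐂[t] :=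
  fun e => h.no2 (t * x) (by
    rw [(mem_cent1_iff_commute.1 e).orderOf_mul_eq_mul_orderOf_of_coprime, orderOf_eq_prime tt t1, hx]
    rw [orderOf_eq_prime tt t1, hx]
    exact (Nat.coprime_primes Nat.prime_two h.pr).2 h.ne2.symm)

theorem cent_le {t : X} (tt : t ^ 2 = 1) (t1 : t ≠ 1) : 𝐂[t] ≤ G := le_G h fun e => by
  haveI := Fact.mk h.pr
  obtain ⟨x, hx⟩ := exists_prime_orderOf_dvd_card' r e
  exact not_mem_cent h tt t1 ((Subgroup.orderOf_coe x).trans hx) x.2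

theorem two_le {K : Subgroup X} (hK : IsPGroup 2 K) : K ≤ G := le_G h fun e => by
  obtain ⟨k, hk⟩ := exists_card_eq_pow Nat.prime_two hK
  exact h.ne2 ((Nat.prime_dvd_prime_iff_eq h.pr Nat.prime_two).1 (h.pr.dvd_of_dvd_pow (hk ▸ e)))

end Mn

/-- The hypotheses of the chapter. -/
structure Hy (G T : Subgroup X) (r : ℕ) (β : X) : Prop where
  mn : Mn G r
  syl : IsSyl 2 T ⊤
  nb : β ∈ 𝐍(T)
  ob : orderOf β = r
  cen : ⁅𝐍(oz T), zpowers β⁆ ≤ 𝐂(oz T)
  wcl : WC T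

namespace Hy

variable {G T : Subgroup X} {r : ℕ} {β : X} (h : Hy G T r β)
include h

omit h in
theorem cc : oz T ≤ 𝐂(oz T) := (oz_le T).trans (le_cent_oz T)

theorem pg : IsPGroup 2 (oz T) := h.syl.pgrp.to_le (oz_le T)

omit h in
theorem tc {a : X} (ha : a ∈ oz T) : T ≤ 𝐂[a] := (le_cent_oz T).trans (cent_le_cent1 ha)

theorem scl : SCl ⊤ T (oz T) := fun z hz g _ e => by
  have h1 : T ^ᵍ g ≤ 𝐂[g * z * g⁻¹] := by
    rw [cent1_conj]; exact conj_mono (tc hz) g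
  obtain ⟨c, hc, h2⟩ := ((h.syl.conj_of_mem_norm (le_norm_self ⊤ (mem_top g))).of_le h1 le_top).exists_conj_le
    Nat.prime_two h.pg ((cent_comm.1 (le_cent_oz T)).trans (cent_le_cent1 e))
  have h3 := h.wcl (g⁻¹ * c) (by rw [← conj_conj]; exact conj_le_iff.2 (by rwa [inv_inv]))
  have h4 := conj_mem_conj hz (g⁻¹ * c)⁻¹
  rw [← conj_eq_iff.1 h3] at h4
  convert h4 using 1
  nth_rw 1 [← mem_cent1_iff_conj.1 (inv_mem hc)]
  group

theorem elt {Y : Subgroup X} (hY : T ≤ Y) {t g : X} (ht : t ∈ T) (hg : g ∈ Y)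
    (e : g * t * g⁻¹ ∈ T) : ∃ m ∈ Y ⊓ 𝐍(oz T), g * t * g⁻¹ = m * t * m⁻¹ :=
  ((h.scl.mono le_top).ctrl (h.syl.of_le hY le_top) (oz_le T) cc).elt ht hg e

theorem solv {a : X} (ha : a ∈ oz T) (a1 : a ≠ 1) : Group.IsSolvable 𝐂[a] := by
  let B := oz T ⊓ 𝐂(𝐂[a] ⊓ 𝐍(oz T))
  have aB : a ∈ B := ⟨ha, mem_cent_iff_cent1.2 inf_le_left⟩
  have bZ := norm_le_norm_oz T h.nb
  have hp : IsPGroup 2 B := h.pg.to_inf_left
  have h1 : β ∈ 𝐍(B) := mem_norm_of_conj_le fun _ hx => by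
    obtain ⟨b, hb, rfl⟩ := mem_conj'.1 hx
    refine ⟨cjm bZ hb.1, mem_cent.2 fun n hn => ?_⟩
    have h2 := mem_cent.1 (h.cen (commutator_mem_commutator (inv_mem hn.2)
      (inv_mem (mem_zpowers β)))) b hb.1
    calc _ = β * (n * (⁅n⁻¹, β⁻¹⁆ * b)) * β⁻¹ := by simp only [commutatorElement_def]; group
      _ = _ := by
        rw [← h2, ← mul_assoc n, mem_cent.1 hb.2 n hn]; simp only [commutatorElement_def]; group
  have h2 : zpowers β ≤ 𝐍(𝐂(B)) := H1.le_normalizer_centralizer (zpowers_le.2 h1)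
  have h3 := h.mn.ind (𝐂(B) ⊔ zpowers β) 𝐂(B) (fun e => norm_ne h.mn (fun e => a1 (e.le aB))
    (H1.isSolvable_of_isPGroup hp) (top_le_iff.1 (e.ge.trans (sup_le (cent_le_norm B)
      (zpowers_le.2 h1))))) ⟨le_sup_left, sup_le (le_norm_self _) h2⟩ (by
    rw [relIndex_sup_of_norm h2]
    refine ((Nat.dvd_prime h.mn.pr).1 ?_).resolve_left fun e => not_mem_cent h.mn
      ((elemAb_oz T).2 a ha) a1 h.ob (cent_le_cent1 aB (relIndex_eq_one.1 e (mem_zpowers β)))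
    rw [← h.ob, ← Nat.card_zpowers]
    exact relIndex_dvd_card _ _)
  have hB : B ≤ 𝐂[a] := inf_le_left.trans ((oz_le T).trans (tc ha))
  have h4 : br 𝐂[a] 𝐂[a] ≤ 𝐂(br 𝐂[a] B) := by
    rw [H1.bar_le_centralizer_iff le_rfl hB, commutator_comm]
    exact commutator_le.2 fun b hb g hg => zstar_rel (h.syl.of_le (tc ha) le_top) (oz_le T hb.1)
      ((elemAb_oz T).2 b hb.1) (fun g hg e => by
        obtain ⟨m, hm, e'⟩ := h.elt (tc ha) (oz_le T hb.1) hg e
        rw [e', mem_cent.1 hb.2 m hm, mul_inv_cancel_right]) hg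
  have h5 := h4.trans (H7.SC.cent_br hp hB)
  rw [H1.bar_le_bar_iff (od_le _) le_rfl inf_le_left] at h5
  exact H1.isSolvable_of_le h5 (H2.isSolvable_sup_of_le_normalizer
    (inf_le_left.trans (H7.SC.le_norm_od _)) (H1.isSolvable_of_le (inf_le_right.trans le_sup_left) h3)
    (feit_thompson _ (Nat.coprime_two_right.1 (H7.SC.od_cop _))))

theorem cent_le_sup {a : X} (ha : a ∈ oz T) (a1 : a ≠ 1) : 𝐂[a] ≤ 𝐍(oz T) ⊔ oc a := by
  have hs := h.solv ha a1
  have h1 : P14.Con 𝐂[a] := by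
    haveI : Group.IsSolvable (𝐂[a] ⧸ (od 𝐂[a]).subgroupOf 𝐂[a]) := inferInstance
    exact (le_inf le_top le_rfl).trans (cent_pCoreOf_le Nat.prime_two inferInstance (H7.SC.od_br _))
  have h2 := h1.le_norm (h.syl.of_le (tc ha) le_top) (tc ha) le_rfl (oz_le T) cc (h.scl.mono le_top)
  rw [H7.SC.norm_br h.pg ((oz_le T).trans (tc ha)),
    H1.bar_le_bar_iff (od_le _) le_rfl inf_le_left] at h2
  exact h2.trans (sup_le_sup_right inf_le_right _)

theorem e8 {E : Subgroup X} (hE : E ≤ oz T) (h3 : IsElem 2 3 E) :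
    𝐨(wc E).Coprime 2 ∧ ∀ B ≤ E, ¬ IsCyclic B → wc E ≤ wc B := by
  obtain ⟨M, hM, h⟩ := H2.sig_complete ⟨h3.1, h3.2⟩ (θ := oc) ⟨fun a _ _ => oc_le a,
    fun a ha _ => hE.trans ((oz_le T).trans ((tc (hE ha)).trans (le_norm_oc a))),
    fun a _ _ => oc_cop a, fun a _ _ => feit_thompson _ (Nat.coprime_two_right.1 (oc_cop a)),
    fun a ha _ b hb b1 => H2.ZC.oc_inf_le (h.solv (hE hb) b1) (tc (hE hb) (oz_le T (hE ha)))
      ((elemAb_oz T).2 a (hE ha))⟩ fun a _ _ => oc_cop a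
  refine ⟨hM.cop.coprime_dvd_left (FT.card_dvd_of_le (wc_le h)), fun B hB hnc => ?_⟩
  refine (wc_le h).trans (H1.le_of_forall_centralizer_le (isMulComm_of_le hB h3.comm) hnc
    (hB.trans hM.inv) (H1.coprime_card_of_isPGroup (h3.pgrp.to_le hB) hM.cop).symm
    fun b hb h1 => (hM.le b (hB hb) h1).trans (le_wc hb h1))

theorem wc_eq {B : Subgroup X} (hB : B ≤ oz T) (hB2 : IsElem 2 2 B) : wc (oz T) = wc B := by
  refine le_antisymm (wc_le fun e he h1 => ?_) (wc_mono hB)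
  by_cases heB : e ∈ B
  · exact le_wc heB h1
  exact (le_wc (mem_sup_right (mem_zpowers e)) h1).trans
    ((h.e8 (sup_le hB (zpowers_le.2 he)) (H2.ZC.isElem_sup_zpowers hB2 heB ((elemAb_oz T).2 e he)
      (cent_anti hB (cc he)))).2 B le_sup_left (hB2.not_isCyclic Nat.prime_two le_rfl))

theorem ne : oz T ≠ ⊥ := H7.SC.oz_ne_bot h.syl.pgrp fun e => h.mn.ns (feit_thompson _ (by
  have := (h.syl.eq_bot_iff Nat.prime_two).1 e
  rw [card_top] at this
  exact Nat.odd_iff.2 (by omega)))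

theorem exists_out : ∃ α ∈ 𝐍(oz T), α ∉ G := by
  haveI := h.mn.nrm
  by_contra! e
  have h1 := (h.syl.of_le (two_le h.mn h.syl.pgrp) le_top).frattini Nat.prime_two (M := ⊤)
    ⟨le_top, le_normalizer_of_normal⟩
  have h2 : G = ⊤ := top_le_iff.1 (h1.ge.trans (sup_le le_rfl
    (inf_le_right.trans ((norm_le_norm_oz T).trans e))))
  exact h.mn.pr.one_lt.ne' (h.mn.idx.symm.trans (index_eq_one.2 h2))

theorem not_conj {a α g : X} (ha : a ∈ oz T) (a1 : a ≠ 1) (hα : α ∉ G) (hg : g ∈ G) :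
    g * a * g⁻¹ ≠ α * a * α⁻¹ := fun e => hα ((mul_mem_cancel_left (inv_mem hg)).1
  (cent_le h.mn ((elemAb_oz T).2 a ha) a1 (mem_cent1_iff_conj.2 (by
    calc _ = g⁻¹ * (α * a * α⁻¹) * g := by group
      _ = _ := by rw [← e]; group))))

theorem five : 5 ≤ 𝐨(oz T) := by
  classical
  haveI := h.mn.nrm
  by_contra h5
  obtain ⟨⟨a, ha⟩, a1⟩ := ne_bot_iff_exists_ne_one.1 h.ne
  replace a1 : a ≠ 1 := fun e => a1 (Subtype.ext e)
  obtain ⟨α, hα, αG⟩ := h.exists_out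
  have α2 : α * α ∉ G := fun e => αG (by
    have h1 := pow_index_mem (H := G) α
    obtain ⟨k, hk⟩ := h.mn.pr.odd_of_ne_two h.mn.ne2
    rw [h.mn.idx, hk, pow_succ, pow_mul, pow_two] at h1
    exact (mul_mem_cancel_left (pow_mem e k)).1 h1)
  have hc : ∀ n ∈ G ⊓ 𝐍(oz T), n * a * n⁻¹ = a := fun n hn => by
    by_contra e
    have c1 := h.not_conj ha a1 αG hn.1
    have c2 := h.not_conj ha a1 α2 hn.1
    have c3 := h.not_conj ha a1 αG (one_mem G)
    have c4 := h.not_conj ha a1 α2 (one_mem G)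
    have c5 : α * a * α⁻¹ ≠ α * α * a * (α * α)⁻¹ := fun e => c3 (by
      have := congrArg (fun z => α⁻¹ * z * α) e
      simpa [mul_assoc] using this)
    have c6 : ∀ g : X, g * a * g⁻¹ ≠ 1 := fun g => by simpa using a1
    rw [one_mul, inv_one, mul_one] at c3 c4
    have h1 := Set.ncard_le_ncard (s := (({n * a * n⁻¹, α * a * α⁻¹, α * α * a * (α * α)⁻¹, a, 1} :
      Finset X) : Set X)) (t := (oz T : Set X)) (by
        simp only [Finset.coe_insert, Finset.coe_singleton, Set.insert_subset_iff,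
          Set.singleton_subset_iff, SetLike.mem_coe]
        exact ⟨cjm hn.2 ha, cjm hα ha, cjm (mul_mem hα hα) ha, ha, one_mem _⟩)
    rw [Set.ncard_coe_finset, Finset.card_insert_of_notMem (by
        simp only [Finset.mem_insert, Finset.mem_singleton, not_or]; exact ⟨c1, c2, e, c6 _⟩),
      Finset.card_insert_of_notMem (by
        simp only [Finset.mem_insert, Finset.mem_singleton, not_or]; exact ⟨c5, c3.symm, c6 _⟩),
      Finset.card_insert_of_notMem (by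
        simp only [Finset.mem_insert, Finset.mem_singleton, not_or]; exact ⟨c4.symm, c6 _⟩),
      Finset.card_pair a1] at h1
    exact h5 h1
  have TG := two_le h.mn h.syl.pgrp
  have h2 : od G = ⊥ := eq_bot h.mn (normal_iff_top_le.2 (le_normalizer_of_normal.trans
    (H2.normalizer_le_normalizer_pPrimeCoreOf 2 G)))
    (feit_thompson _ (Nat.coprime_two_right.1 (H7.SC.od_cop _)))
  refine a1 ((eq_bot h.mn (N := 𝐙(G)) inferInstance (H1.isSolvable_of_isMulCommutative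
    (isMulComm_iff_le_cent.2 (inf_le_right.trans (cent_anti inf_le_left))))).le
    ⟨TG (oz_le T ha), mem_cent.2 fun g hg => ?_⟩)
  refine (commutatorElement_eq_one_iff_mul_comm.1 (h2.le (zstar_rel (h.syl.of_le TG le_top)
    (oz_le T ha) ((elemAb_oz T).2 a ha) (fun g hg e => ?_) hg))).symm
  obtain ⟨m, hm, e'⟩ := h.elt TG (oz_le T ha) hg e
  rw [e', hc m hm]

theorem exM : ∃ M : Subgroup X, M ≠ ⊤ ∧ 𝐍(oz T) ≤ M ∧ ∀ a ∈ oz T, a ≠ 1 → 𝐂[a] ≤ M := by
  by_cases e : wc (oz T) = ⊥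
  · exact ⟨_, norm_ne h.mn h.ne (H1.isSolvable_of_isPGroup h.pg), le_rfl, fun a ha a1 =>
      (h.cent_le_sup ha a1).trans (sup_le le_rfl ((le_wc ha a1).trans (e.le.trans bot_le)))⟩
  have hn : 𝐍(oz T) ≤ 𝐍(wc (oz T)) := fun g hg => conj_eq_self_iff.1 (by
    rw [← wc_conj, conj_eq_of_mem_norm hg])
  refine ⟨_, norm_ne h.mn e (feit_thompson _ (Nat.coprime_two_right.1 ?_)), hn, fun a ha a1 =>
    (h.cent_le_sup ha a1).trans (sup_le hn ((le_wc ha a1).trans (le_norm_self _)))⟩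
  have := h.five
  obtain ⟨E, a1, a2⟩ := H7.SC.exists_isElem (k := 3) (elemAb_oz T) (by omega)
  obtain ⟨B, b1, b2⟩ := a2.exists_le Nat.prime_two (k := 2) (by omega)
  rw [h.wc_eq (b1.trans a1) b2]
  exact (h.e8 a1 a2).1.coprime_dvd_left (FT.card_dvd_of_le (wc_mono b1))

theorem mem_of_conj {M : Subgroup X} (h1 : 𝐍(oz T) ≤ M) (h2 : ∀ a ∈ oz T, a ≠ 1 → 𝐂[a] ≤ M)
    {a g : X} (ha : a ∈ oz T) (a1 : a ≠ 1) (hg : g * a * g⁻¹ ∈ M) : g ∈ M := by
  obtain ⟨m, hm, e⟩ := (h.syl.of_le ((tc ha).trans (h2 a ha a1)) le_top).exists_conj_le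
    Nat.prime_two (two_zp (k := 1) (x := g * a * g⁻¹) (by
      rw [conj_pow, pow_one, (elemAb_oz T).2 a ha]; group)) (zpowers_le.2 hg)
  obtain ⟨n, hn, e'⟩ := h.elt le_top (g := m * g) (oz_le T ha) trivial (by
    have := e (conj_mem_conj (mem_zpowers _) m)
    convert this using 1; group)
  have : n⁻¹ * (m * g) ∈ M := h2 a ha a1 (mem_cent1_iff_conj.2 (by
    calc _ = n⁻¹ * (m * g * a * (m * g)⁻¹) * n := by group
      _ = _ := by rw [e']; group))
  exact (mul_mem_cancel_left hm).1 ((mul_mem_cancel_left (inv_mem (h1 hn.2))).1 this)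

theorem false : False := by
  haveI := h.mn.nrm
  obtain ⟨M, h0, h1, h2⟩ := h.exM
  obtain ⟨⟨a, ha⟩, a1⟩ := ne_bot_iff_exists_ne_one.1 h.ne
  replace a1 : a ≠ 1 := fun e => a1 (Subtype.ext e)
  obtain ⟨α, hα, αG⟩ := h.exists_out
  obtain ⟨g, gG, hg⟩ := SetLike.not_le_iff_exists.1 fun e : G ≤ M => h0
    ((H3.isCoatom_of_index_prime (h.mn.idx ▸ h.mn.pr)).2 M
      (lt_of_le_of_ne e fun e => αG (e ▸ h1 hα)))
  have hy := cjm hα ha
  have y1 : α * a * α⁻¹ ≠ 1 := by simpa using a1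
  have nc := fun g => h.not_conj (g := g) ha a1 αG
  generalize α * a * α⁻¹ = y at hy y1 nc
  have sq : ∀ {a}, a ∈ oz T → a * a = 1 := fun {a} ha => (pow_two a).symm.trans ((elemAb_oz T).2 a ha)
  have ZG := two_le h.mn h.pg
  have u1 : g * y * g⁻¹ * (g * y * g⁻¹) = 1 := by rw [conj_mul, sq hy]; group
  have u2 : g * y * g⁻¹ ∉ M := fun e => hg (h.mem_of_conj h1 h2 hy y1 e)
  rcases Nat.even_or_odd (orderOf (a * (g * y * g⁻¹))) with e | e
  · obtain ⟨k, k1, k2, k3, k4⟩ := L.exists_invol_commute_of_even (sq ha) u1 e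
    have k5 : ∃ x : X, ∃ z ∈ oz T, a * (a * (g * y * g⁻¹)) ^ k = x * z * x⁻¹ := by
      obtain ⟨x, e | e⟩ := dih (sq ha) u1 k
      · exact ⟨x, a, ha, e⟩
      · exact ⟨x * g, y, hy, by rw [e]; group⟩
    generalize (a * (g * y * g⁻¹)) ^ k = c at *
    obtain ⟨x, z, hz, k5⟩ := k5
    obtain ⟨w, -, hw⟩ := h.syl.exists_conj_le Nat.prime_two (Q := zpowers a ⊔ zpowers c)
      (elemAb_isPGroup (elemAb_sup (elemAb_zpowers ((elemAb_oz T).2 a ha))
        (elemAb_zpowers (by rwa [pow_two]))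
        (zpowers_le.2 (by rw [cent_zpowers]; exact mem_cent1.2 k3.symm)))) le_top
    have w1 := h.scl a ha w trivial (hw (conj_mem_conj (mem_sup_left (mem_zpowers a)) w))
    have w2 := h.scl z hz (w * x) trivial (by
      have := hw (conj_mem_conj (mul_mem (mem_sup_left (mem_zpowers a))
        (mem_sup_right (mem_zpowers c))) w)
      rw [k5] at this
      convert this using 1; group)
    have w3 : w * c * w⁻¹ ∈ oz T := by
      have := mul_mem (inv_mem w1) w2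
      rwa [show w * x * z * (w * x)⁻¹ = w * (x * z * x⁻¹) * w⁻¹ by group, ← k5, ← conj_mul,
        inv_mul_cancel_left] at this
    have w4 := h2 _ w3 (by simpa using k1)
    rw [cent1_conj, conj_le_iff, conj_eq_of_mem
      (inv_mem (h.mem_of_conj h1 h2 ha a1 (h1 (le_normalizer w1))))] at w4
    exact absurd (w4 (mem_cent1.2 k4)) u2
  · obtain ⟨k, k1, k2⟩ := L.exists_invol_conj_of_odd (sq ha) u1 e
    have cG : a * (a * (g * y * g⁻¹)) ^ k ∈ G := mul_mem (ZG ha) (pow_mem (mul_mem (ZG ha)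
      (mul_mem (mul_mem gG (ZG hy)) (inv_mem gG))) k)
    generalize a * (a * (g * y * g⁻¹)) ^ k = c at *
    refine nc (g⁻¹ * c) (mul_mem (inv_mem gG) cG) ?_
    rw [mul_inv_rev, inv_eq_of_mul_eq_one_right k1]
    calc _ = g⁻¹ * (c * a * c) * g := by group
      _ = _ := by rw [k2]; group

end Hy

end G2

theorem g2Stmt : G2Stmt.{u} := fun _ _ _ _ _ h _ _ a b c d e => G2.Hy.false ⟨h, a, b, c, d, e⟩

end Cfsg.Agent.P19
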