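/-
P19, chapter M1: selection of `J` and of a quadratic offender.
-/
import Cfsg.Agent.P19.M0

set_option autoImplicit false
set_option linter.unusedSectionVars false
set_option linter.style.haveILetI false

namespace Cfsg.Agent.P19

open Subgroup Cfsg Cfsg.Agent Cfsg.Agent.FT
open Cfsg.Agent.H7.SC (oz jj oz_le le_cent_oz elemAb_oz)
open Cfsg.Agent.H5 (elemMax)
open scoped commutatorElement

universe u

variable {X : Type u} [Group X] [Finite X]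

/-- Order of the largest elementary abelian subgroups. -/
noncomputable def mm (P : Subgroup X) : ℕ := 𝐨((H5.exists_mem_elemMax 2 P).choose)

theorem mm_eq {P A : Subgroup X} (hA : A ∈ elemMax 2 P) : 𝐨(A) = mm P :=
  have h := (H5.exists_mem_elemMax 2 P).choose_spec
  le_antisymm (h.2.2 _ hA.1 hA.2.1) (hA.2.2 _ h.1 h.2.1)

/-- The level. -/
noncomputable def lv (P : Subgroup X) : ℕ := mm P * (Nat.card X + 1) + 𝐨(jj P)

theorem lv_jj (P : Subgroup X) : lv (jj P) = lv P := by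
  obtain ⟨A, hA⟩ := H5.exists_mem_elemMax 2 P
  rw [lv, lv, jj_jj, ← mm_eq hA,
    ← mm_eq (H5.mem_elemMax_of_le (jj_le P) hA (H5.le_thompsonSubgroupOf hA))]

theorem jj_eq_of_lv {P Q : Subgroup X} (h : P ≤ Q) (hl : lv Q ≤ lv P) : jj Q = jj P := by
  obtain ⟨B, hB⟩ := H5.exists_mem_elemMax 2 Q
  obtain ⟨A, hA⟩ := H5.exists_mem_elemMax 2 P
  have h1 : mm P ≤ mm Q := mm_eq hA ▸ mm_eq hB ▸ hB.2.2 _ (hA.1.trans h) hA.2.1
  have h2 : 𝐨(jj P) ≤ Nat.card X := card_le_card_group _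
  have h3 : mm P = mm Q := by
    by_contra e
    have : (mm P + 1) * (Nat.card X + 1) ≤ mm Q * (Nat.card X + 1) :=
      Nat.mul_le_mul_right _ (by omega)
    unfold lv at hl
    nlinarith
  have h4 : jj P ≤ jj Q := by
    rw [jj, H5.thompsonSubgroupOf_eq_sSup]
    exact sSup_le fun C hC => H5.le_thompsonSubgroupOf ⟨hC.1.trans h, hC.2.1, fun D d1 d2 => by
      rw [mm_eq hC, h3, ← mm_eq hB]; exact hB.2.2 D d1 d2⟩
  refine (H1.eq_of_le_of_card_le h4 ?_).symm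
  unfold lv at hl
  rw [h3] at hl
  omega

theorem jj_weak {T : Subgroup X} {u : X} (h : jj T ^ᵍ u ≤ T) : u ∈ 𝐍(jj T) := by
  refine mem_norm_of_conj_le (conj_le_iff.2 ?_)
  conv_lhs => rw [jj, H5.thompsonSubgroupOf_eq_sSup]
  refine sSup_le fun C hC => conj_le_iff.1 (H5.le_thompsonSubgroupOf
    ⟨(conj_mono (H5.le_thompsonSubgroupOf hC) u).trans h, elemAb_conj hC.2.1 u, fun D d1 d2 => ?_⟩)
  rw [card_conj]
  exact hC.2.2 D d1 d2

/-- Two different conjugates of `Ω₁ Z(T)` are central in the 2-group `P`. -/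
def PP (T P : Subgroup X) : Prop := IsPGroup 2 P ∧ ∃ x y : X, oz T ^ᵍ x ≠ oz T ^ᵍ y ∧
  oz T ^ᵍ x ≤ P ⊓ 𝐂(P) ∧ oz T ^ᵍ y ≤ P ⊓ 𝐂(P)

theorem PP.conj {T P : Subgroup X} (h : PP T P) (g : X) : PP T (P ^ᵍ g) := by
  obtain ⟨h1, x, y, h2, h3, h4⟩ := h
  refine ⟨two_conj h1 g, g * x, g * y, ?_, ?_, ?_⟩
  · rw [← conj_conj, ← conj_conj]
    exact fun e => h2 (conj_inj.1 e)
  all_goals rw [← conj_conj, cent_conj, ← conj_inf]
  exacts [conj_mono h3 g, conj_mono h4 g]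

theorem PP.jj {T P : Subgroup X} (h : PP T P) : PP T (jj P) := by
  obtain ⟨h1, x, y, h2, h3, h4⟩ := h
  have k : ∀ x : X, oz T ^ᵍ x ≤ P ⊓ 𝐂(P) → oz T ^ᵍ x ≤ H7.SC.jj P ⊓ 𝐂(H7.SC.jj P) := fun x h =>
    have e := (h.trans inf_le_right).trans (cent_anti (jj_le P))
    le_inf (le_jj (elemAb_conj (elemAb_oz T) x) (h.trans inf_le_left) e) e
  exact ⟨h1.to_le (jj_le P), x, y, h2, k x h3, k y h4⟩

/-- Maximal level. -/
def Mx (T J : Subgroup X) : Prop := PP T J ∧ ∀ Q, PP T Q → J ≤ Q → jj Q = J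

theorem exists_mx {T P : Subgroup X} (h : PP T P) : ∃ J, Mx T J := by
  obtain ⟨P, h1, h2⟩ := Set.exists_max_image {P | PP T P} lv (Set.toFinite _) ⟨P, h⟩
  exact ⟨jj P, PP.jj h1, fun Q hQ e => by
    rw [jj_eq_of_lv e (by rw [lv_jj]; exact h2 Q hQ), jj_jj]⟩

namespace Mx

variable {T J : Subgroup X} (m : Mx T J)
include m

theorem conj (g : X) : Mx T (J ^ᵍ g) := ⟨m.1.conj g, fun Q hQ e => by
  have := m.2 _ (hQ.conj g⁻¹) (conj_le_iff.1 e)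
  rwa [jj_conj, conj_eq_iff, inv_inv] at this⟩

theorem other (x : X) : ∃ c : X, oz T ^ᵍ c ≠ oz T ^ᵍ x ∧ oz T ^ᵍ c ≤ J ⊓ 𝐂(J) := by
  obtain ⟨-, a, b, h1, h2, h3⟩ := m.1
  by_cases e : oz T ^ᵍ a = oz T ^ᵍ x
  · exact ⟨b, fun e' => h1 (e.trans e'.symm), h3⟩
  · exact ⟨a, e, h2⟩

theorem mem {x : X} (h : oz T ^ᵍ x ≤ 𝐂(J)) : oz T ^ᵍ x ≤ J := by
  obtain ⟨c, c1, c2⟩ := m.other x
  have e := elemAb_conj (elemAb_oz T) x
  have h1 := m.2 (oz T ^ᵍ x ⊔ J) ⟨isPGroup_sup (elemAb_isPGroup e) m.1.1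
    (h.trans (cent_le_norm J)), c, x, c1, le_inf ((c2.trans inf_le_left).trans le_sup_right) ?_,
    le_inf le_sup_left ?_⟩ le_sup_right
  · exact h1 ▸ le_jj e le_sup_left (h1.symm ▸ h)
  · rw [cent_sup]
    exact le_inf ((c2.trans inf_le_left).trans (cent_comm.1 h)) (c2.trans inf_le_right)
  · rw [cent_sup]
    exact le_inf (le_cent_self e) h

theorem uniq {Q : Subgroup X} (hQ : IsPGroup 2 Q) (hJ : J ≤ Q) {h k : X} (h1 : Q ≤ 𝐂(oz T ^ᵍ h))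
    (h2 : Q ≤ 𝐂(oz T ^ᵍ k)) (hne : oz T ^ᵍ h ≠ oz T ^ᵍ k) : jj Q = J :=
  m.2 Q ⟨hQ, h, k, hne, le_inf ((m.mem (cent_comm.1 (hJ.trans h1))).trans hJ) (cent_comm.1 h1),
    le_inf ((m.mem (cent_comm.1 (hJ.trans h2))).trans hJ) (cent_comm.1 h2)⟩ hJ

omit m in
theorem syl_cent (hT : IsSyl 2 T ⊤) (x : X) : IsSyl 2 (T ^ᵍ x) 𝐂(oz T ^ᵍ x) :=
  (hT.conj_of_mem_norm (g := x) (by rw [norm_top]; trivial)).of_le
    (conj_le_cent_iff.2 (le_cent_oz T)) le_top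

theorem ne_jj (hT : IsSyl 2 T ⊤) (hF : 𝐍(jj T) ≤ 𝐍(oz T)) (w : X) : jj T ^ᵍ w ≠ J := by
  intro e
  have k : ∀ y : X, oz T ^ᵍ y ≤ J ⊓ 𝐂(J) → oz T ^ᵍ y = oz T ^ᵍ w := fun y hy => by
    obtain ⟨d, hd, e'⟩ := (syl_cent hT y).exists_le_conj Nat.prime_two m.1.1
      (cent_comm.1 (hy.trans inf_le_right))
    rw [← e, conj_conj, le_conj_iff, conj_conj] at e'
    have h1 := conj_eq_of_mem_norm (hF (jj_weak e'))
    rw [← conj_conj, conj_eq_iff, inv_inv, ← conj_conj,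
      conj_eq_of_mem_norm (cent_le_norm _ hd)] at h1
    exact h1.symm
  obtain ⟨c, c1, c2⟩ := m.other w
  exact c1 (k c c2)

theorem m3 (hT : IsSyl 2 T ⊤) (hF : 𝐍(jj T) ≤ 𝐍(oz T)) {x : X} {T1 : Subgroup X}
    (h1 : IsSyl 2 T1 (𝐂(oz T ^ᵍ x) ⊓ 𝐍(J))) : jj T1 ≠ J := by
  intro e
  obtain ⟨c, hc, e'⟩ := (syl_cent hT x).exists_le_conj Nat.prime_two h1.pgrp
    (h1.le.trans inf_le_left)
  have hS := (syl_cent hT x).conj_of_mem_norm (le_norm_self _ hc)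
  have h2 : T1 = (T ^ᵍ x) ^ᵍ c := by
    by_contra hne
    have h3 := lt_inf_norm_of_isNilpotent (isNilpotent_of_isPGroup Nat.prime_two hS.pgrp)
      (lt_of_le_of_ne e' hne)
    exact h3.ne' (h1.eq_of_le Nat.prime_two h3.le (inf_le_inf hS.le
      (e ▸ H5.normalizer_le_normalizer_thompsonSubgroupOf T1)) (hS.pgrp.to_le inf_le_left))
  rw [h2, conj_conj, jj_conj] at e
  exact m.ne_jj hT hF _ e

end Mx

theorem m1Stmt : M1Stmt.{u} := by
  intro X _ _ T hT hF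
  by_cases hw : WC T
  · exact Or.inl hw
  right
  obtain ⟨g, g1, g2⟩ : ∃ g : X, oz T ^ᵍ g ≤ T ∧ oz T ^ᵍ g ≠ oz T := by
    by_contra h
    exact hw fun g hg => by_contra fun e => h ⟨g, hg, e⟩
  have e1 : IsElementaryAbelian 2 (oz T ⊔ oz T ^ᵍ g) :=
    elemAb_sup (elemAb_oz T) (elemAb_conj (elemAb_oz T) g) (g1.trans (le_cent_oz T))
  obtain ⟨J0, m0⟩ := exists_mx (T := T) ⟨elemAb_isPGroup e1, g, 1, by rwa [conj_one],
    le_inf le_sup_right (le_sup_right.trans (le_cent_self e1)),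
    by rw [conj_one]; exact le_inf le_sup_left (le_sup_left.trans (le_cent_self e1))⟩
  obtain ⟨w, w1, w2⟩ := H7.SC.exists_ext hT m0.1.1 (le_norm_self J0)
  rw [← norm_conj] at w2
  have m := m0.conj w
  generalize J0 ^ᵍ w = J at w1 w2 m
  have z1 : oz T ≤ 𝐂(J) := cent_comm.1 (w1.trans (le_cent_oz T))
  have z2 : oz T ≤ J := by simpa only [conj_one] using m.mem (x := 1) (by rwa [conj_one])
  have hR : J ≤ T ⊓ 𝐍(J) := le_inf w1 (le_norm_self J)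
  have mv : ¬ 𝐍(J) ≤ 𝐍(oz T) := fun e => by
    obtain ⟨c, c1, c2⟩ := m.other 1
    obtain ⟨T1, t1, t2⟩ := exists_isSyl_ge Nat.prime_two (M := 𝐂(oz T ^ᵍ c) ⊓ 𝐍(J)) m.1.1
      (le_inf (cent_comm.1 (c2.trans inf_le_right)) (le_norm_self J))
    obtain ⟨h, hh, e'⟩ := w2.exists_conj_le Nat.prime_two t1.pgrp (t1.le.trans inf_le_right)
    have h1 := m.uniq (two_conj t1.pgrp h) (by rw [← conj_eq_of_mem_norm hh]; exact conj_mono t2 h)
      (h := h * c) (k := 1)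
      (by rw [← conj_conj]; exact conj_le_cent_iff.2 (t1.le.trans inf_le_left))
      (by rw [conj_one]; exact (e'.trans inf_le_left).trans (le_cent_oz T))
      fun e'' => c1 (by
        rw [conj_one] at e'' ⊢
        rwa [← conj_conj, conj_eq_iff, conj_eq_of_mem_norm (inv_mem (e hh))] at e'')
    rw [jj_conj, conj_eq_iff, conj_eq_of_mem_norm (inv_mem hh)] at h1
    exact m.m3 hT hF t1 h1
  have r1 : jj (T ⊓ 𝐍(J)) ≠ J := m.m3 hT hF (x := 1) (w2.of_le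
    (le_inf (by rw [conj_one]; exact inf_le_left.trans (le_cent_oz T)) inf_le_right) inf_le_right)
  have v1 : H2.nclIn 𝐍(J) (oz T) ≤ J ⊓ 𝐂(J) := H2.nclIn_le_iff.2 fun h hh =>
    conj_le_of_mem_norm (le_inf z2 z1) (norm_le_norm_center J hh)
  have v2 : IsElementaryAbelian 2 (H2.nclIn 𝐍(J) (oz T)) :=
    elemAb_of_le (B := oz J) (H2.nclIn_le_iff.2 fun h hh => le_omegaOne_of_elemAb
      ((H2.conj_le_nclIn _ hh).trans v1) (elemAb_conj (elemAb_oz T) h)) (elemAb_oz J)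
  obtain ⟨A, a1, a2, a3⟩ := exists_quad w2.pgrp v2 ⟨(v1.trans inf_le_left).trans hR,
    inf_le_right.trans (H2.le_normalizer_nclIn _ _)⟩ fun e => by
      obtain ⟨h, hh, h1⟩ := SetLike.not_le_iff_exists.1 mv
      have q1 : jj (T ⊓ 𝐍(J)) ⊔ J ≤ T ⊓ 𝐍(J) := sup_le (jj_le _) hR
      have q2 : jj (T ⊓ 𝐍(J)) ⊔ J ≤ 𝐂(H2.nclIn 𝐍(J) (oz T)) :=
        sup_le e (cent_comm.1 (v1.trans inf_le_right))
      have q3 := m.uniq (w2.pgrp.to_le q1) le_sup_right (h := h) (k := 1)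
        (q2.trans (cent_anti (H2.conj_le_nclIn _ hh)))
        (q2.trans (cent_anti (H2.conj_le_nclIn _ (one_mem _))))
        fun e' => h1 (conj_eq_self_iff.1 (by rwa [conj_one] at e'))
      exact r1 ((H5.thompsonSubgroupOf_eq_of_le q1 le_sup_left).symm.trans q3)
  exact ⟨J, A, hT, w1, z2, w2, mv, fun Q q1 q2 h _ k _ q3 q4 q5 => m.uniq q1 q2 q3 q4 q5, a1,
    fun e => a2 (e.trans (cent_comm.1 (v1.trans inf_le_right))), a3⟩

end Cfsg.Agent.P19
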