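/-
P19, chapter M2: the rank one group generated by two offenders.
-/
import Cfsg.Agent.P19.M0

set_option autoImplicit false
set_option linter.unusedSectionVars false
set_option linter.style.haveILetI false

namespace Cfsg.Agent.P19

open Subgroup Cfsg Cfsg.Agent Cfsg.Agent.FT
open Cfsg.Agent.H7.SC (oz jj oz_le le_cent_oz elemAb_oz)
open Cfsg.Agent.H5 (elemMax)
open scoped commutatorElement

universe u

variable {X : Type u} [Group X] [Finite X]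

/-- `L` is minimal above `A` and outside `N(Z)`. -/
structure Ml (T J A L : Subgroup X) : Prop extends Sel T J A where
  al : A ≤ L
  lh : L ≤ 𝐍(J)
  nl : ¬ L ≤ 𝐍(oz T)
  mn : ∀ K, A ≤ K → K ≤ L → ¬ K ≤ 𝐍(oz T) → K = L

theorem Sel.exists_ml {T J A : Subgroup X} (s : Sel T J A) : ∃ L, Ml T J A L := by
  obtain ⟨L, h1, h2⟩ := Set.exists_min_image {L : Subgroup X | A ≤ L ∧ L ≤ 𝐍(J) ∧ ¬ L ≤ 𝐍(oz T)}
    (fun L => 𝐨(L)) (Set.toFinite _) ⟨_, s.A_le, le_rfl, s.mv⟩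
  exact ⟨L, s, h1.1, h1.2.1, h1.2.2, fun K k1 k2 k3 =>
    H1.eq_of_le_of_card_le k2 (h2 K ⟨k1, k2.trans h1.2.1, k3⟩)⟩

namespace Ml

variable {T J A L : Subgroup X} (s : Ml T J A L)
include s

local notation "U" => H2.nclIn L (oz T)

theorem uel : IsElementaryAbelian 2 U := s.toSel.ncl_el s.lh

theorem uc : U ≤ 𝐂(U) := le_cent_self s.uel

theorem nu : L ≤ 𝐍(U) := H2.le_normalizer_nclIn _ _

theorem zc : oz T ≤ U ⊓ 𝐂(A) := le_inf (H2.le_nclIn _ _) (cent_comm.1 s.toSel.A_cz)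

theorem cconj {g : X} (hg : g ∈ L) : (U ⊓ 𝐂(A)) ^ᵍ g = U ⊓ 𝐂(A ^ᵍ g) := by
  rw [conj_inf, cent_conj, conj_eq_of_mem_norm (s.nu hg)]

theorem cle {g : X} (hg : g ∈ L) : (U ⊓ 𝐂(A)) ^ᵍ g ≤ U := (s.cconj hg).le.trans inf_le_left

theorem n0 : L ≤ 𝐍(U ⊓ 𝐂(L)) := (cent_comm.1 inf_le_right).trans (cent_le_norm _)

theorem c0le {g : X} (hg : g ∈ L) : U ⊓ 𝐂(L) ≤ (U ⊓ 𝐂(A)) ^ᵍ g := by
  rw [s.cconj hg]
  exact inf_le_inf_left _ (cent_anti (conj_le_of_mem s.al hg))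

theorem qd {a v : X} (ha : a ∈ A) (hv : v ∈ U) : ⁅a, v⁆ ∈ U ⊓ 𝐂(A) :=
  mem_inf.2 ⟨mul_mem ((mem_normalizer_iff.1 (s.nu (s.al ha)) v).1 hv) (inv_mem hv),
    le_cent_self s.toSel.el (s.quad a ha v (H2.nclIn_mono s.lh le_rfl hv))⟩

theorem qd' : ⁅U, A⁆ ≤ U ⊓ 𝐂(A) := by
  rw [Subgroup.commutator_comm]
  exact commutator_le.2 fun _ ha _ hv => s.qd ha hv

theorem gen {g a : X} (hg : g ∈ L) (ha : a ∈ A) (h : a ∉ 𝐍(oz T ^ᵍ g)) :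
    L ≤ zpowers a ⊔ A ^ᵍ g := by
  have := s.mn ((zpowers a ⊔ A ^ᵍ g) ^ᵍ g⁻¹) (conj_le_iff.1 le_sup_right)
    (conj_le_of_mem (sup_le (zpowers_le.2 (s.al ha)) (conj_le_of_mem s.al hg)) (inv_mem hg))
    fun e => h (by
      rw [conj_le_iff, inv_inv, ← norm_conj] at e
      exact e (mem_sup_left (mem_zpowers a)))
  rw [conj_eq_iff, inv_inv, conj_eq_of_mem hg] at this
  exact this.ge

theorem ex {g : X} (hg : g ∈ L) (h : g ∉ 𝐍(oz T)) : ∃ a ∈ A, a ∉ 𝐍(oz T ^ᵍ g) :=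
  SetLike.not_le_iff_exists.1 fun e => h (conj_eq_self_iff.1 (by
    simpa only [conj_one] using s.toSel.fix (one_mem _) (s.lh hg) (by rwa [conj_one])))

theorem c1 {g a : X} (hg : g ∈ L) (ha : a ∈ A) (h : a ∉ 𝐍(oz T ^ᵍ g)) :
    U ≤ (U ⊓ 𝐂(A)) ^ᵍ g ⊔ (U ⊓ 𝐂(A)) := by
  have h1 : (U ⊓ 𝐂(A)) ^ᵍ g ⊔ (U ⊓ 𝐂(A)) ≤ U := sup_le (s.cle hg) inf_le_left
  have h2 : L ≤ 𝐍((U ⊓ 𝐂(A)) ^ᵍ g ⊔ (U ⊓ 𝐂(A))) := (s.gen hg ha h).trans (sup_le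
    (comm_le_left_iff.1 (((commutator_mono h1 (zpowers_le.2 ha)).trans s.qd').trans le_sup_right))
    (comm_le_left_iff.1 ((commutator_mono h1 le_rfl).trans (le_trans (by
      have := conj_mono s.qd' g
      rwa [conj_comm, conj_eq_of_mem_norm (s.nu hg)] at this) le_sup_left))))
  refine H2.nclIn_le_iff.2 fun l hl => ?_
  have := conj_le_of_mem_norm ((conj_mono s.zc g).trans le_sup_left) (h2 (mul_mem hl (inv_mem hg)))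
  rwa [conj_conj, inv_mul_cancel_right] at this

theorem c2 {g : X} (hg : g ∈ L) (h : g ∉ 𝐍(oz T)) :
    (U ⊓ 𝐂(A)) ^ᵍ g ⊓ (U ⊓ 𝐂(A)) = U ⊓ 𝐂(L) := by
  obtain ⟨a, ha, h1⟩ := s.ex hg h
  refine le_antisymm (le_inf (inf_le_right.trans inf_le_left) (le_trans ?_
    (cent_anti (s.gen hg ha h1)))) (le_inf (s.c0le hg) (inf_le_inf_left _ (cent_anti s.al)))
  rw [cent_sup, s.cconj hg]
  exact le_inf ((inf_le_right.trans inf_le_right).trans (cent_anti (zpowers_le.2 ha)))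
    (inf_le_left.trans inf_le_right)

theorem c4a {g a v : X} (hg : g ∈ L) (ha : a ∈ A) (h : a ∉ 𝐍(oz T ^ᵍ g)) (hv : v ∈ U)
    (e : ⁅a, v⁆ ∈ U ⊓ 𝐂(L)) : v ∈ U ⊓ 𝐂(A) := by
  obtain ⟨c', hc', c, hc, rfl⟩ := (mem_sup_of_norm ((inf_le_left.trans s.uc).trans
    ((cent_anti (s.cle hg)).trans (cent_le_norm _)))).1 (s.c1 hg ha h hv)
  have e1 : ⁅a, c' * c⁆ = ⁅a, c'⁆ := by
    calc ⁅a, c' * c⁆ = a * c' * (c * a⁻¹) * c⁻¹ * c'⁻¹ := by group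
      _ = _ := by rw [← hc.2 _ (inv_mem ha)]; group
  rw [e1] at e
  have k1 : (U ⊓ 𝐂(L)) ⊔ zpowers c' ≤ (U ⊓ 𝐂(A)) ^ᵍ g := sup_le (s.c0le hg) (zpowers_le.2 hc')
  have k2 : L ≤ 𝐍((U ⊓ 𝐂(L)) ⊔ zpowers c') := (s.gen hg ha h).trans (sup_le
    (zpowers_le.2 (mem_norm_of_conj_le (by
      rw [conj_sup, conj_eq_of_mem_norm (s.n0 (s.al ha)), ← zpowers_conj]
      refine sup_le le_sup_left (zpowers_le.2 ?_)
      rw [show a * c' * a⁻¹ = ⁅a, c'⁆ * c' by group]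
      exact mul_mem (mem_sup_left e) (mem_sup_right (mem_zpowers _)))))
    ((cent_comm.1 (k1.trans ((s.cconj hg).le.trans inf_le_right))).trans (cent_le_norm _)))
  rw [← conj_eq_of_mem_norm (k2 hg), conj_le_conj_iff] at k1
  exact mul_mem (k1 (mem_sup_right (mem_zpowers _))) hc

theorem c3 {g a : X} (hg : g ∈ L) (h : g ∉ 𝐍(oz T)) (ha : a ∈ A) (hn : a ∉ 𝐂(U)) :
    a ∉ 𝐍(oz T ^ᵍ g) := by
  have two : IsPGroup 2 (zpowers a) := (elemAb_isPGroup s.toSel.el).to_le (zpowers_le.2 ha)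
  obtain ⟨l, hl, h1⟩ : ∃ l ∈ L, a ∉ 𝐍(oz T ^ᵍ l) := by
    by_contra e
    push Not at e
    exact hn (zpowers_le.1 (cent_comm.1 (H2.nclIn_le_iff.2 fun l hl =>
      cent_comm.1 (cent_of_norm s.sylT two (zpowers_le.2 (e l hl))))))
  intro e
  obtain ⟨b, hb, h2⟩ := s.ex hg h
  refine h2 (cent_le_norm _ (cent_comm.1 (fun v hv => ?_) hb))
  refine (s.c4a hl ha h1 (H2.conj_le_nclIn _ hg hv) ?_).2
  rw [commutatorElement_eq_one_iff_mul_comm.2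
    (cent_of_norm s.sylT two (zpowers_le.2 e) (mem_zpowers a) v hv).symm]
  exact one_mem _

theorem card_c {g : X} (hg : g ∈ L) (h : g ∉ 𝐍(oz T)) :
    (U ⊓ 𝐂(L)).relIndex (U ⊓ 𝐂(A)) = 𝐂(A).relIndex U := by
  obtain ⟨a, ha, h1⟩ := s.ex hg h
  have h2 := relIndex_sup_of_norm (A := (U ⊓ 𝐂(A)) ^ᵍ g) (B := U ⊓ 𝐂(A))
    ((inf_le_left.trans s.uc).trans ((cent_anti (s.cle hg)).trans (cent_le_norm _)))
  rw [le_antisymm (sup_le (s.cle hg) inf_le_left) (s.c1 hg ha h1)] at h2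
  rw [← s.c2 hg h, inf_relIndex_right, ← h2, ← inf_relIndex_left _ 𝐂(A),
    ← relIndex_conj (U ⊓ 𝐂(A)) U g, conj_eq_of_mem_norm (s.nu hg)]

/-- `a ↦ [a, v]`. -/
def cm {v : X} (hv : v ∈ U) : A →* X := MonoidHom.mk' (fun a => ⁅(a : X), v⁆) fun a b => by
  have h1 := (s.qd b.2 hv).2 _ a.2
  have h2 := s.uc (s.qd b.2 hv).1 _ (s.qd a.2 hv).1
  calc ⁅((a * b : A) : X), v⁆ = a * ⁅(b : X), v⁆ * (a : X)⁻¹ * ⁅(a : X), v⁆ := by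
        rw [coe_mul]; group
    _ = _ := by rw [h1, mul_inv_cancel_right, h2]

theorem c4b {g v : X} (hg : g ∈ L) (h : g ∉ 𝐍(oz T)) (hv : v ∈ U) (hn : v ∉ U ⊓ 𝐂(A)) :
    (s.cm hv).range ⊔ (U ⊓ 𝐂(L)) = U ⊓ 𝐂(A) ∧ 𝐂(U).relIndex A = 𝐂(A).relIndex U := by
  have k : ∀ a ∈ A, ⁅a, v⁆ ∈ U ⊓ 𝐂(L) → a ∈ 𝐂(U) := fun a ha e =>
    by_contra fun e' => hn (s.c4a hg ha (s.c3 hg h ha e') hv e)
  have k' : ∀ a ∈ 𝐂(U), ⁅a, v⁆ = 1 := fun a ha =>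
    commutatorElement_eq_one_iff_mul_comm.2 (ha v hv).symm
  have h1 : (s.cm hv).range ≤ U ⊓ 𝐂(A) := by
    rintro _ ⟨a, rfl⟩
    exact s.qd a.2 hv
  have h2 : (s.cm hv).range ⊓ (U ⊓ 𝐂(L)) = ⊥ := eq_bot_iff.2 (by
    rintro _ ⟨⟨a, rfl⟩, e⟩
    exact k' _ (k _ a.2 e))
  have h3 : (s.cm hv).ker = 𝐂(U).subgroupOf A := Subgroup.ext fun a =>
    ⟨fun e => k _ a.2 ((show ⁅(a : X), v⁆ = 1 from e).symm ▸ one_mem _), fun e => k' _ e⟩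
  have h4 : 𝐨((s.cm hv).range) = 𝐂(U).relIndex A := by rw [← index_ker, h3]; rfl
  have h5 := card_sup_mul_card_inf (A := (s.cm hv).range) (B := U ⊓ 𝐂(L))
    ((inf_le_left.trans s.uc).trans ((cent_anti (h1.trans inf_le_left)).trans (cent_le_norm _)))
  rw [h2, card_bot, mul_one, h4] at h5
  have h0 : U ⊓ 𝐂(L) ≤ U ⊓ 𝐂(A) := inf_le_inf_left _ (cent_anti s.al)
  have h6 := H1.card_mul_relIndex h0
  rw [s.card_c hg h] at h6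
  have h7 : 𝐂(A).relIndex U ≤ 𝐂(U).relIndex A :=
    (relIndex_le_of_le_left (le_cent_self s.toSel.el) (H2.relIndex_pos _ _).ne').trans
      (offender s.hA s.uel (((s.toSel.ncl_le s.lh).trans inf_le_left).trans s.toSel.le_R))
  have h8 := H1.eq_of_le_of_card_le (sup_le h1 h0) (by
    rw [h5, ← h6, mul_comm]; exact Nat.mul_le_mul_right _ h7)
  refine ⟨h8, ?_⟩
  rw [h8, ← h6, mul_comm] at h5
  exact (Nat.eq_of_mul_eq_mul_right Nat.card_pos h5).symm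

/-- Conjugacy modulo `C_U(L)`. -/
def Rl (_ : Ml T J A L) (x y : X) : Prop := ∃ l ∈ L, (l * x * l⁻¹)⁻¹ * y ∈ U ⊓ 𝐂(L)

theorem Rl.trans {x y w : X} (h1 : s.Rl x y) (h2 : s.Rl y w) : s.Rl x w := by
  obtain ⟨l, hl, e1⟩ := h1
  obtain ⟨k, hk, e2⟩ := h2
  refine ⟨k * l, mul_mem hk hl, ?_⟩
  have := mul_mem ((mem_normalizer_iff.1 (s.n0 hk) _).1 e1) e2
  convert this using 1
  group

theorem t1 {g v w : X} (hg : g ∈ L) (h : g ∉ 𝐍(oz T)) (hv : v ∈ U) (hn : v ∉ U ⊓ 𝐂(A))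
    (hw : v⁻¹ * w ∈ U ⊓ 𝐂(A)) : s.Rl v w := by
  rw [← (s.c4b hg h hv hn).1] at hw
  obtain ⟨_, ⟨a, rfl⟩, z, hz, e⟩ := (mem_sup_of_norm ((inf_le_left.trans s.uc).trans ((cent_anti (by
    rintro _ ⟨a, rfl⟩
    exact (s.qd a.2 hv).1)).trans (cent_le_norm _)))).1 hw
  refine ⟨a, s.al a.2, ?_⟩
  have h1 := s.uc (s.qd a.2 hv).1 _ hv
  change ⁅(a : X), v⁆ * z = _ at e
  convert hz using 1
  calc ((a : X) * v * (a : X)⁻¹)⁻¹ * w = (⁅(a : X), v⁆ * v)⁻¹ * v * (v⁻¹ * w) := by group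
    _ = z := by rw [← h1, ← e]; group

theorem t2 {g v w : X} (hg : g ∈ L) (h : g ∉ 𝐍(oz T)) (hv : v ∈ U) (hn : v ∉ (U ⊓ 𝐂(A)) ^ᵍ g)
    (hw : v⁻¹ * w ∈ (U ⊓ 𝐂(A)) ^ᵍ g) : s.Rl v w := by
  obtain ⟨l, hl, e⟩ := s.t1 hg h (v := g⁻¹ * v * g) (w := g⁻¹ * w * g)
    (by rw [← mem_conj, conj_eq_of_mem_norm (s.nu hg)]; exact hv) (fun e => hn (mem_conj.2 e))
    (by convert mem_conj.1 hw using 1; group)
  refine ⟨g * l * g⁻¹, mul_mem (mul_mem hg hl) (inv_mem hg), ?_⟩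
  convert (mem_normalizer_iff.1 (s.n0 hg) _).1 e using 1
  group

theorem nz : ¬ oz T ≤ U ⊓ 𝐂(L) := fun e =>
  s.nl ((cent_comm.1 (e.trans inf_le_right)).trans (cent_le_norm _))

theorem c5 {g x y : X} (hg : g ∈ L) (h : g ∉ 𝐍(oz T)) (hx : x ∈ U ⊓ 𝐂(A)) (hx0 : x ∉ U ⊓ 𝐂(L))
    (hy : y ∈ U ⊓ 𝐂(A)) (hy0 : y ∉ U ⊓ 𝐂(L)) :
    ∃ l ∈ L ⊓ 𝐍(oz T), (l * x * l⁻¹)⁻¹ * y ∈ U ⊓ 𝐂(L) := by
  obtain ⟨c, hc, hc0⟩ := SetLike.not_le_iff_exists.1 fun e : oz T ^ᵍ g ≤ U ⊓ 𝐂(L) =>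
    s.nz (by rwa [conj_le_iff, conj_eq_of_mem_norm (s.n0 (inv_mem hg))] at e)
  replace hc := conj_mono s.zc g hc
  have k : ∀ w, w ∈ (U ⊓ 𝐂(A)) ^ᵍ g → w ∈ U ⊓ 𝐂(A) → w ∈ U ⊓ 𝐂(L) :=
    fun w h1 h2 => (s.c2 hg h).le ⟨h1, h2⟩
  have hcU := s.cle hg hc
  have r1 : s.Rl x (x * c) := s.t2 hg h hx.1 (fun e => hx0 (k x e hx)) (by simpa using hc)
  have r2 : s.Rl (x * c) (y * c) := s.t1 hg h (mul_mem hx.1 hcU)
    (fun e => hc0 (k c hc ((mul_mem_cancel_left hx).1 e))) (by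
      have h1 := mul_mem (inv_mem hx) hy
      rwa [show (x * c)⁻¹ * (y * c) = c⁻¹ * (x⁻¹ * y * c) by group, s.uc hcU _ h1.1,
        inv_mul_cancel_left])
  have r3 : s.Rl (y * c) y := s.t2 hg h (mul_mem hy.1 hcU)
    (fun e => hy0 (k y ((mul_mem_cancel_right hc).1 e) hy)) (by simpa using hc)
  obtain ⟨l, hl, e⟩ := Rl.trans s (Rl.trans s r1 r2) r3
  refine ⟨l, ⟨hl, by_contra fun hn => hx0 ?_⟩, e⟩
  have h1 := (mul_mem_cancel_right hy).1 (inf_le_inf_left _ (cent_anti s.al) e)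
  exact (mem_normalizer_iff.1 (s.n0 hl) _).2 ((s.c2 hl hn).le
    (mem_inf.2 ⟨conj_mem_conj hx l, inv_mem_iff.1 h1⟩))

theorem c7 {g : X} (hg : g ∈ L) (h : g ∉ 𝐍(oz T)) :
    (U ⊓ 𝐂(L)).relIndex (oz T) = 𝐂(A).relIndex U := by
  obtain ⟨z, hz, hz0⟩ := SetLike.not_le_iff_exists.1 s.nz
  have h1 : (U ⊓ 𝐂(L)) ⊔ oz T = U ⊓ 𝐂(A) := le_antisymm
    (sup_le (inf_le_inf_left _ (cent_anti s.al)) s.zc) fun c hc => by
      by_cases e : c ∈ U ⊓ 𝐂(L)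
      · exact mem_sup_left e
      obtain ⟨l, hl, e'⟩ := s.c5 hg h (s.zc hz) hz0 hc e
      exact (mul_mem_cancel_left (inv_mem (mem_sup_right
        ((mem_normalizer_iff.1 hl.2 z).1 hz)))).1 (mem_sup_left e')
  rw [← s.card_c hg h, ← h1, relIndex_sup_of_norm (((s.zc.trans inf_le_left).trans s.uc).trans
    ((cent_anti inf_le_left).trans (cent_le_norm _)))]

end Ml

theorem m2Stmt : M2Stmt.{u} := by
  intro X _ _ T J A s0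
  obtain ⟨L, s⟩ := s0.exists_ml
  obtain ⟨g, hg, h⟩ := SetLike.not_le_iff_exists.1 s.nl
  have q1 := s.c7 hg h
  have q2 := H2.relIndex_pos (H2.nclIn L (oz T) ⊓ 𝐂(L)) (oz T)
  have q3 : (H2.nclIn L (oz T) ⊓ 𝐂(L)).relIndex (oz T) ≠ 1 := fun e => s.nz (relIndex_eq_one.1 e)
  by_cases e : (H2.nclIn L (oz T) ⊓ 𝐂(L)).relIndex (oz T) = 2
  · refine Or.inr ⟨g, s.lh hg, h, ?_, ?_⟩
    · rw [← e, ← inf_relIndex_right, ← inf_relIndex_right (_ ⊓ 𝐂(L))]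
      congr 1
      refine le_antisymm (le_inf ((inf_le_inf (conj_mono s.zc g) s.zc).trans (s.c2 hg h).le)
        inf_le_right) (le_inf (fun x hx => ?_) inf_le_right)
      rw [← mem_cent1_iff_conj.1 (mem_cent1.2 (hx.1.2 g hg).symm)]
      exact conj_mem_conj hx.2 g
    · obtain ⟨a, ha, h1⟩ := s.ex hg h
      obtain ⟨v, hv, h2⟩ := SetLike.not_le_iff_exists.1
        fun e : oz T ^ᵍ g ≤ H2.nclIn L (oz T) ⊓ 𝐂(A) =>
          h1 (cent_le_norm _ (cent_comm.1 (e.trans inf_le_right) ha))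
      rw [← e, q1, ← (s.c4b hg h (H2.conj_le_nclIn _ hg hv) h2).2, ← inf_relIndex_right,
        ← inf_relIndex_right 𝐂(H2.nclIn L (oz T))]
      congr 1
      exact le_antisymm (fun a ha => ⟨by_contra fun e => s.c3 hg h ha.2 e (cent_le_norm _ ha.1),
        ha.2⟩) (inf_le_inf_right _ (cent_anti (H2.conj_le_nclIn _ hg)))
  · refine Or.inl ⟨H2.nclIn L (oz T) ⊓ 𝐂(L) ⊓ oz T, L ⊓ 𝐍(oz T), inf_le_right, ?_,
      le_inf inf_le_right (inf_le_left.trans (cent_comm.1 (inf_le_left.trans inf_le_right))),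
      fun K hK hT => ?_, fun x hx x0 y hy y0 => ?_⟩
    · rw [inf_relIndex_right]
      omega
    · obtain ⟨a, ha, h1⟩ := s.ex hg h
      have h2 : A ≤ K := (s.hA.1.trans inf_le_left).trans hT
      exact inf_le_left.trans ((s.gen hg ha h1).trans (sup_le (zpowers_le.2 (h2 ha))
        (conj_le_of_mem_norm h2 (normal_iff_top_le.1 hK trivial))))
    · obtain ⟨l, hl, e'⟩ := s.c5 hg h (s.zc hx) (fun e => x0 ⟨e, hx⟩) (s.zc hy) fun e => y0 ⟨e, hy⟩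
      exact ⟨l, hl, mem_inf.2 ⟨e', mul_mem (inv_mem ((mem_normalizer_iff.1 hl.2 x).1 hx)) hy⟩⟩

end Cfsg.Agent.P19
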