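/-
P19: assembly.
-/
import Cfsg.Agent.P19.KC
import Cfsg.Agent.P19.EA
import Cfsg.Agent.P19.EB
import Cfsg.Agent.P19.M1
import Cfsg.Agent.P19.M2
import Cfsg.Agent.P19.H
import Cfsg.Agent.P19.G0
import Cfsg.Agent.P19.G1
import Cfsg.Agent.P19.G2

set_option autoImplicit false

namespace Cfsg.Agent.P19

universe u

theorem cop : CopStmt.{u} :=
  cop_of (g1Stmt hStmt m1Stmt m2Stmt m3Stmt (eaStmt kcStmt orbStmt) (ebStmt kcStmt orbStmt)) g2Stmt

end Cfsg.Agent.P19
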